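import Cfsg.Agent.Mrg.Omega.NO3S.SN.Geo
import Cfsg.Agent.Mrg.Omega.S5.Syl
import Cfsg.Agent.Mrg.Omega.Exit.WeakClosed

-- merged: Cfsg.Agent.Mrg.Omega.NO3S.SN.Blocks
section

section


/-!
# THEOREM SN, part (3): blocks

`Sit` : `Base` and `Blk`.  `blk ε X y p` : the block of `y` which contains `p`, for collinear `y`, `p`
(the conjugate of the block `X` of `z`, `z_1`).

* `Sit.blk_eq`, `Sit.conj_blk`, `Sit.blk_eq_blk` (one block of `y` contains `p`), `Sit.U_le_of` (`U_y` is generated by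
  the blocks), `Sit.Q1'`, `Sit.K1'`, `Sit.K2'`;
* (3a) `Sit.three_a`; `MM y p = blk y p ⊔ blk p y`, `Sit.MM_eq` : it depends only on `blk y p`;
* (C) `Sit.blk_ne` : `blk y p ≠ blk p y`, `Sit.not_mem`;
* (3c) `Sit.zeta_one`.
-/

set_option autoImplicit false
set_option linter.unusedSectionVars false

namespace Cfsg.Agent.Omega.NO3S.SN

open Subgroup Cfsg Cfsg.Agent.ZN
open Cfsg.Agent.Omega.S5.Def
open Cfsg.Agent.MinSimple.VModule
open Cfsg.Agent.MinSimple.CosetFam (o2_conj zc_conj centralizer_conj normalizer_conj)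
open Cfsg.Agent.Omega.NoFF.Basic (conj_conj conj_self mem_conj conj_le_iff comm_symm comm_mono conj_le_centralizer)
open scoped Pointwise

universe u

/-! ### Pairs -/

section pairs

variable {N : ℕ}

theorem sum_pr (a b : Fin N) : ∑ i, pr a b i = 0 := by
  simp only [pr, Pi.add_apply, Finset.sum_add_distrib, Finset.sum_pi_single', Finset.mem_univ, if_true]
  exact CharTwo.add_self_eq_zero _

theorem sum_add {x y : Fin N → ZMod 2} (hx : ∑ i, x i = 0) (hy : ∑ i, y i = 0) : ∑ i, (x + y) i = 0 := by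
  simp only [Pi.add_apply, Finset.sum_add_distrib, hx, hy, add_zero]

theorem pr_comm (a b : Fin N) : pr a b = pr b a := add_comm _ _

theorem pr_self (a : Fin N) : pr a a = 0 := add_self _

theorem pr_add (a b c : Fin N) : pr a b + pr b c = pr a c := by
  simp only [pr]
  rw [add_assoc, ← add_assoc (Pi.single b 1) (Pi.single b 1), add_self, zero_add]

theorem single_comp (σ : Equiv.Perm (Fin N)) (a : Fin N) :
    (Pi.single a 1 : Fin N → ZMod 2) ∘ σ.symm = Pi.single (σ a) 1 := by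
  funext j
  by_cases hj : j = σ a
  · subst hj
    simp
  · have h1 : σ.symm j ≠ a := fun h0 => hj (by rw [← h0, Equiv.apply_symm_apply])
    simp [Function.comp, hj, h1]

theorem pr_comp (σ : Equiv.Perm (Fin N)) (a b : Fin N) : pr a b ∘ σ.symm = pr (σ a) (σ b) := by
  simp only [pr]
  rw [← single_comp, ← single_comp]
  rfl

theorem pr_apply (a b j : Fin N) : pr a b j = (if j = a then 1 else 0) + (if j = b then 1 else 0) := by
  simp only [pr, Pi.add_apply, Pi.single_apply]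

/-- An even permutation extending a partial one. -/
theorem exists_even {k : ℕ} (hk : k + 2 ≤ N) {f g : Fin k → Fin N} (hf : Function.Injective f)
    (hg : Function.Injective g) : ∃ σ : Equiv.Perm (Fin N), Equiv.Perm.sign σ = 1 ∧ ∀ i, σ (f i) = g i := by
  obtain ⟨σ, hσ⟩ := Equiv.Perm.exists_extending_pair f g hf hg
  rcases Int.units_eq_one_or (Equiv.Perm.sign σ) with h | h
  · exact ⟨σ, h, hσ⟩
  · have hN : NeZero N := ⟨by omega⟩
    have hc : (Finset.univ.image f).card = k := by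
      rw [Finset.card_image_of_injective _ hf, Finset.card_univ, Fintype.card_fin]
    obtain ⟨a, ha⟩ := exists_not_mem (Finset.univ.image f) (by omega)
    obtain ⟨b, hb⟩ := exists_not_mem (insert a (Finset.univ.image f))
      (lt_of_le_of_lt (Finset.card_insert_le _ _) (by omega))
    simp only [Finset.mem_insert, Finset.mem_image, Finset.mem_univ, true_and, not_or, not_exists] at ha hb
    refine ⟨σ * Equiv.swap a b, ?_, fun i => ?_⟩
    · rw [Equiv.Perm.sign_mul, h, Equiv.Perm.sign_swap (Ne.symm hb.1)]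
      rfl
    · rw [Equiv.Perm.mul_apply, Equiv.swap_apply_of_ne_of_ne (ha i) (hb.2 i), hσ]

/-- Four points. -/
theorem exists_even_four (hN : 8 ≤ N) {a b c d a' b' c' d' : Fin N} (h1 : a ≠ b) (h2 : a ≠ c) (h3 : a ≠ d)
    (h4 : b ≠ c) (h5 : b ≠ d) (h6 : c ≠ d) (h1' : a' ≠ b') (h2' : a' ≠ c') (h3' : a' ≠ d')
    (h4' : b' ≠ c') (h5' : b' ≠ d') (h6' : c' ≠ d') : ∃ σ : Equiv.Perm (Fin N), Equiv.Perm.sign σ = 1 ∧
      σ a = a' ∧ σ b = b' ∧ σ c = c' ∧ σ d = d' := by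
  have key : ∀ {a b c d : Fin N}, a ≠ b → a ≠ c → a ≠ d → b ≠ c → b ≠ d → c ≠ d →
      Function.Injective ![a, b, c, d] := by
    intro a b c d h1 h2 h3 h4 h5 h6 i j hij
    fin_cases i <;> fin_cases j <;> first | rfl | (exfalso; simp_all)
  obtain ⟨σ, h, hσ⟩ := exists_even (by omega) (key h1 h2 h3 h4 h5 h6) (key h1' h2' h3' h4' h5' h6')
  exact ⟨σ, h, hσ 0, hσ 1, hσ 2, hσ 3⟩

theorem exists_out (hN : 8 ≤ N) (s : Finset (Fin N)) (h : s.card ≤ 7) : ∃ i, i ∉ s := by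
  have : NeZero N := ⟨by omega⟩
  exact exists_not_mem s (by omega)

end pairs

/-! ### Blocks -/

/-- `Base` and `Blk`. -/
structure Sit {G : Type u} [Group G] {n : ℕ} [NeZero n] (V P : Subgroup G)
    (ε : (Fin n → ZMod 2) → G) (N : ℕ) (X : Subgroup G)
    (e : (Fin N → ZMod 2) → G) (α β : Fin n → Fin N) (ζ : G) : Prop where
  B : Base V P ε
  K : Blk V ε N X e α β ζ

/-- The block of `y` which contains `p` (for collinear `y`, `p`). -/
def blk {G : Type u} [Group G] {n : ℕ} [NeZero n] (ε : (Fin n → ZMod 2) → G) (X : Subgroup G) (y p : G) :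
    Subgroup G :=
  ⨆ g : {g : G // g * pt ε 0 * g⁻¹ = y ∧ g * pt ε 1 * g⁻¹ = p}, MulAut.conj (g : G) • X

/-- `M(y, p)` -/
def MM {G : Type u} [Group G] {n : ℕ} [NeZero n] (ε : (Fin n → ZMod 2) → G) (X : Subgroup G) (y p : G) :
    Subgroup G := blk ε X y p ⊔ blk ε X p y

namespace Sit

variable {G : Type u} [Group G] {n : ℕ} [NeZero n] {V P : Subgroup G} {ε : (Fin n → ZMod 2) → G}
  {N : ℕ} {X : Subgroup G} {e : (Fin N → ZMod 2) → G} {α β : Fin n → Fin N} {ζ : G}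

theorem conj_blk (y p g : G) :
    MulAut.conj g • blk ε X y p = blk ε X (g * y * g⁻¹) (g * p * g⁻¹) := by
  have key : ∀ (g y p : G), MulAut.conj g • blk ε X y p ≤ blk ε X (g * y * g⁻¹) (g * p * g⁻¹) := by
    intro g y p
    rw [Subgroup.pointwise_smul_subset_iff]
    refine iSup_le ?_
    rintro ⟨k, rfl, rfl⟩
    rw [← Subgroup.pointwise_smul_subset_iff, conj_conj]
    exact le_iSup (fun l : {l : G // l * pt ε 0 * l⁻¹ = g * (k * pt ε 0 * k⁻¹) * g⁻¹ ∧
      l * pt ε 1 * l⁻¹ = g * (k * pt ε 1 * k⁻¹) * g⁻¹} =>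
      MulAut.conj (l : G) • X) ⟨g * k, by group, by group⟩
  refine le_antisymm (key g y p) ?_
  have h1 := conj_le_iff (g := g) |>.2 (key g⁻¹ (g * y * g⁻¹) (g * p * g⁻¹))
  rw [conj_conj, mul_inv_cancel, map_one, one_smul] at h1
  refine h1.trans (le_of_eq ?_)
  congr 2 <;> group

theorem conj_MM (y p g : G) : MulAut.conj g • MM ε X y p = MM ε X (g * y * g⁻¹) (g * p * g⁻¹) := by
  rw [MM, smul_sup, conj_blk, conj_blk, MM]

theorem MM_symm (y p : G) : MM ε X y p = MM ε X p y := sup_comm _ _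

variable (D : Sit V P ε N X e α β ζ)
include D

theorem pt_mem_X (i : Fin n) : pt ε i ∈ X := D.K.V_le (D.B.pt_mem i)

theorem adj0 {i : Fin n} (hi : i ≠ 0) : Adj ε (pt ε 0) (pt ε i) := D.B.adj_pt (Ne.symm hi)

theorem pt_notMem {i : Fin n} (hi : i ≠ 0) : pt ε i ∉ zpowers (pt ε 0) := D.B.adj_notMem (D.adj0 hi)

theorem conj_X_eq {c p : G} (hc : c ∈ Cn (pt ε 0)) (hp : p ∈ X) (hp' : p ∈ MulAut.conj c • X)
    (hpz : p ∉ zpowers (pt ε 0)) : MulAut.conj c • X = X := by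
  by_contra hne
  exact hpz (D.K.inter c hc hne ⟨hp, hp'⟩)

theorem conj_X_eq_conj {k g : G} (h0 : k * pt ε 0 * k⁻¹ = g * pt ε 0 * g⁻¹)
    (h1 : k * pt ε 1 * k⁻¹ = g * pt ε 1 * g⁻¹) : MulAut.conj k • X = MulAut.conj g • X := by
  have key : ∀ i, k * pt ε i * k⁻¹ = g * pt ε i * g⁻¹ → (g⁻¹ * k) * pt ε i * (g⁻¹ * k)⁻¹ = pt ε i := by
    intro i hi
    have h3 : (g⁻¹ * k) * pt ε i * (g⁻¹ * k)⁻¹ = g⁻¹ * (k * pt ε i * k⁻¹) * g := by group
    rw [h3, hi]
    group
  have h2 : MulAut.conj (g⁻¹ * k) • X = X := by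
    refine D.conj_X_eq (mem_Cn'.2 (key 0 h0)) (D.pt_mem_X 1) ?_ (D.pt_notMem D.B.one_ne_zero)
    have h3 := mem_conj_of (D.pt_mem_X 1) (g⁻¹ * k)
    rwa [key 1 h1] at h3
  have h3 : MulAut.conj k • X = MulAut.conj g • (MulAut.conj (g⁻¹ * k) • X) := by
    rw [conj_conj, mul_inv_cancel_left]
  rw [h3, h2]

theorem blk_eq (g : G) : blk ε X (g * pt ε 0 * g⁻¹) (g * pt ε 1 * g⁻¹) = MulAut.conj g • X := by
  apply le_antisymm
  · exact iSup_le fun k => (D.conj_X_eq_conj k.2.1 k.2.2).le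
  · exact le_iSup (fun k : {k : G // k * pt ε 0 * k⁻¹ = g * pt ε 0 * g⁻¹ ∧
      k * pt ε 1 * k⁻¹ = g * pt ε 1 * g⁻¹} => MulAut.conj (k : G) • X) ⟨g, rfl, rfl⟩

theorem blk_eq' {g y p : G} (h0 : g * pt ε 0 * g⁻¹ = y) (h1 : g * pt ε 1 * g⁻¹ = p) :
    blk ε X y p = MulAut.conj g • X := by
  rw [← h0, ← h1]
  exact D.blk_eq g

theorem blk_z : blk ε X (pt ε 0) (pt ε 1) = X := by
  have h := D.blk_eq' (g := 1) (y := pt ε 0) (p := pt ε 1) (by group) (by group)
  rwa [map_one, one_smul] at h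

theorem left_mem {y p : G} (h : Adj ε y p) : y ∈ blk ε X y p := by
  obtain ⟨g, h0, h1⟩ := h
  rw [D.blk_eq' h0 h1, ← h0]
  exact mem_conj_of (D.pt_mem_X 0) g

theorem right_mem {y p : G} (h : Adj ε y p) : p ∈ blk ε X y p := by
  obtain ⟨g, h0, h1⟩ := h
  rw [D.blk_eq' h0 h1, ← h1]
  exact mem_conj_of (D.pt_mem_X 1) g

theorem blk_le_U {y p : G} (h : Adj ε y p) : blk ε X y p ≤ U V (pt ε 0) y := by
  obtain ⟨g, h0, h1⟩ := h
  rw [D.blk_eq' h0 h1, ← h0, ← conj_U]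
  exact conj_le_iff.2 D.K.le

/-- The block of `y` containing `p` is unique. -/
theorem blk_eq_blk {y p q : G} (h : Adj ε y p) (h' : Adj ε y q) (hq : q ∈ blk ε X y p) :
    blk ε X y q = blk ε X y p := by
  obtain ⟨g, h0, h1⟩ := h
  obtain ⟨k, k0, k1⟩ := h'
  rw [D.blk_eq' h0 h1] at hq ⊢
  rw [D.blk_eq' k0 k1]
  have hc : (g⁻¹ * k) * pt ε 0 * (g⁻¹ * k)⁻¹ = pt ε 0 := by
    have h3 : (g⁻¹ * k) * pt ε 0 * (g⁻¹ * k)⁻¹ = g⁻¹ * (k * pt ε 0 * k⁻¹) * g := by group
    rw [h3, k0, ← h0]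
    group
  have hq1 : (g⁻¹ * k) * pt ε 1 * (g⁻¹ * k)⁻¹ = g⁻¹ * q * g := by
    rw [← k1]
    group
  have h2 : MulAut.conj (g⁻¹ * k) • X = X := by
    refine D.conj_X_eq (p := g⁻¹ * q * g) (mem_Cn'.2 hc) (mem_conj.1 hq) ?_ ?_
    · rw [← hq1]
      exact mem_conj_of (D.pt_mem_X 1) _
    · rw [← hq1]
      have h4 := D.pt_notMem D.B.one_ne_zero
      intro h5
      apply h4
      have h6 : zpowers (pt ε 0) = MulAut.conj (g⁻¹ * k) • zpowers (pt ε 0) := by
        rw [conj_zpowers, hc]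
      rw [h6, mem_conj] at h5
      have h7 : (g⁻¹ * k)⁻¹ * ((g⁻¹ * k) * pt ε 1 * (g⁻¹ * k)⁻¹) * (g⁻¹ * k) = pt ε 1 := by group
      rwa [h7] at h5
  have h3 : MulAut.conj k • X = MulAut.conj g • (MulAut.conj (g⁻¹ * k) • X) := by
    rw [conj_conj, mul_inv_cancel_left]
  rw [h3, h2]

/-- `U_y` is generated by its blocks. -/
theorem U_le_of {y : G} {A : Subgroup G} (h : ∀ p, Adj ε y p → blk ε X y p ≤ A) : U V (pt ε 0) y ≤ A := by
  refine U_le fun g hg => ?_
  have h1 : Adj ε y (g * pt ε 1 * g⁻¹) := ⟨g, hg, rfl⟩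
  refine le_trans ?_ (h _ h1)
  rw [D.blk_eq' hg rfl]
  exact conj_le_iff.2 D.K.V_le

/-- (2d) `Q_p` centralises the blocks of `y` not containing `p`. -/
theorem Q1' {y p q : G} (h : Adj ε y p) (h' : Adj ε y q) (hne : blk ε X y q ≠ blk ε X y p) :
    Qn p ≤ centralizer (blk ε X y q : Set G) := by
  obtain ⟨g, h0, h1⟩ := h
  obtain ⟨k, k0, k1⟩ := h'
  rw [D.blk_eq' h0 h1, D.blk_eq' k0 k1] at hne
  rw [D.blk_eq' k0 k1, ← h1, ← conj_Qn]
  have hc : g⁻¹ * k ∈ Cn (pt ε 0) := by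
    rw [mem_Cn']
    have h3 : (g⁻¹ * k) * pt ε 0 * (g⁻¹ * k)⁻¹ = g⁻¹ * (k * pt ε 0 * k⁻¹) * g := by group
    rw [h3, k0, ← h0]
    group
  have h3 : MulAut.conj k • X = MulAut.conj g • (MulAut.conj (g⁻¹ * k) • X) := by
    rw [conj_conj, mul_inv_cancel_left]
  rw [h3, centralizer_conj, conj_le_iff]
  intro x hx
  refine D.K.Q1 x hx _ hc fun h4 => hne ?_
  rw [h3, h4]

/-- (2d) `Q_p` on the block of `y` containing `p`. -/
theorem Q2' {g p x : G} (h1 : g * pt ε 1 * g⁻¹ = p) (hx : x ∈ Qn p) :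
    x ∈ centralizer ((MulAut.conj g • X : Subgroup G) : Set G) ∨
      ∀ v : Fin N → ZMod 2, ∑ i, v i = 0 →
        x * (g * e v * g⁻¹) * x⁻¹ = g * e (v ∘ Equiv.swap (α 1) (β 1)) * g⁻¹ := by
  rw [← h1, ← conj_Qn, mem_conj] at hx
  rcases D.K.Q2 _ hx with h2 | h2
  · left
    rw [centralizer_conj, mem_conj]
    exact h2
  · right
    intro v hv
    rw [← h2 v hv]
    group

theorem K1' {y p : G} (h : Adj ε y p) :
    U V (pt ε 0) y ⊓ centralizer (oddGen (centralizer (blk ε X y p : Set G)) : Set G) ≤ blk ε X y p := by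
  obtain ⟨g, h0, h1⟩ := h
  rw [D.blk_eq' h0 h1, ← h0, ← conj_U, centralizer_conj, ← conj_oddGen, centralizer_conj, ← smul_inf,
    conj_le_iff]
  exact D.K.K1

theorem K2' {y p q : G} (h : Adj ε y p) (h' : Adj ε y q) (hne : blk ε X y q ≠ blk ε X y p) :
    y ∈ ⁅U V (pt ε 0) y, oddGen (centralizer (blk ε X y p : Set G))⁆ := by
  obtain ⟨g, h0, h1⟩ := h
  obtain ⟨k, k0, k1⟩ := h'
  rw [D.blk_eq' h0 h1, D.blk_eq' k0 k1] at hne
  have hc : g⁻¹ * k ∈ Cn (pt ε 0) := by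
    rw [mem_Cn']
    have h3 : (g⁻¹ * k) * pt ε 0 * (g⁻¹ * k)⁻¹ = g⁻¹ * (k * pt ε 0 * k⁻¹) * g := by group
    rw [h3, k0, ← h0]
    group
  have h3 : MulAut.conj k • X = MulAut.conj g • (MulAut.conj (g⁻¹ * k) • X) := by
    rw [conj_conj, mul_inv_cancel_left]
  have h4 := D.K.K2 ⟨_, hc, fun h4 => hne (by rw [h3, h4])⟩
  rw [D.blk_eq' h0 h1, centralizer_conj, ← conj_oddGen, ← h0, ← conj_U, ← conj_commutator]
  exact mem_conj_of h4 g

/-! ### The letters of the line `V` -/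

theorem V_le_blk {i j : Fin n} (hij : i ≠ j) : V ≤ blk ε X (pt ε i) (pt ε j) := by
  obtain ⟨w, -, hV, h0, h1⟩ := D.B.exists_two hij
  rw [D.blk_eq' h0 h1]
  have h2 := conj_le_iff (g := w) |>.2 D.K.V_le
  rwa [hV] at h2

theorem blk_pt {i j k : Fin n} (hij : i ≠ j) (hik : i ≠ k) :
    blk ε X (pt ε i) (pt ε j) = blk ε X (pt ε i) (pt ε k) :=
  D.blk_eq_blk (D.B.adj_pt hik) (D.B.adj_pt hij) (D.V_le_blk hik (D.B.pt_mem j))

theorem blk_zero {j : Fin n} (hj : j ≠ 0) : blk ε X (pt ε 0) (pt ε j) = X := by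
  rw [D.blk_pt hj.symm D.B.one_ne_zero.symm]
  exact D.blk_z

/-! ### The even subsets -/

theorem e_zero : e 0 = 1 := by
  have h := D.K.add 0 0 (by simp) (by simp)
  rw [add_zero] at h
  exact left_eq_mul.1 h

theorem gen_le {A : Subgroup G} (h : ∀ c d, c ≠ d → e (pr c d) ∈ A) : X ≤ A := by
  intro g hg
  obtain ⟨x, hx, rfl⟩ := D.K.surj g hg
  have hN : 0 < N := lt_of_lt_of_le (by norm_num) D.K.N8
  let a : Fin N := ⟨0, hN⟩
  have h01 : ∀ t : ZMod 2, t = 0 ∨ t = 1 := by decide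
  have key : ∀ s : Finset (Fin N), ∑ i, (∑ j ∈ s, x j • pr a j) i = 0 ∧ e (∑ j ∈ s, x j • pr a j) ∈ A := by
    intro s
    induction s using Finset.induction_on with
    | empty =>
      rw [Finset.sum_empty, D.e_zero]
      exact ⟨by simp, one_mem _⟩
    | insert j s hj ih =>
      rw [Finset.sum_insert hj]
      have h1 : ∑ i, (x j • pr a j) i = 0 ∧ e (x j • pr a j) ∈ A := by
        rcases h01 (x j) with h2 | h2
        · rw [h2, zero_smul, D.e_zero]
          exact ⟨by simp, one_mem _⟩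
        · rw [h2, one_smul]
          refine ⟨sum_pr a j, ?_⟩
          by_cases h3 : a = j
          · rw [h3, pr_self, D.e_zero]
            exact one_mem _
          · exact h a j h3
      refine ⟨sum_add h1.1 ih.1, ?_⟩
      rw [D.K.add _ _ h1.1 ih.1]
      exact mul_mem h1.2 ih.2
  have h2 : ∑ j, x j • pr a j = x := by
    funext i
    rw [Finset.sum_apply]
    simp only [Pi.smul_apply, pr_apply, smul_eq_mul, mul_add, mul_ite, mul_one, mul_zero,
      Finset.sum_add_distrib]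
    rw [Finset.sum_ite_eq, if_pos (Finset.mem_univ i)]
    by_cases h3 : i = a
    · simp only [h3, if_true, hx, zero_add]
    · simp only [h3, if_false, Finset.sum_const_zero, zero_add]
  have h3 := (key Finset.univ).2
  rwa [h2] at h3

theorem zeta_mem : ζ ∈ zpowers (pt ε 0) := by
  rcases D.K.zeta with h | h
  · rw [h]
    exact one_mem _
  · rw [h]
    exact mem_zpowers _

theorem zeta_comm {c : G} (hc : c ∈ Cn (pt ε 0)) : c * ζ * c⁻¹ = ζ := by
  rcases D.K.zeta with h | h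
  · rw [h, mul_one, mul_inv_cancel]
  · rw [h]
    exact mem_Cn'.1 hc

/-- An element inducing a given even permutation. -/
theorem exists_alt {σ : Equiv.Perm (Fin N)} (hσ : Equiv.Perm.sign σ = 1) : ∃ c ∈ Cn (pt ε 0),
    (∀ a b, c * e (pr a b) * c⁻¹ = e (pr (σ a) (σ b))) ∧
      ∀ a b, c * (e (pr a b) * ζ) * c⁻¹ = e (pr (σ a) (σ b)) * ζ := by
  obtain ⟨c, hc, h1⟩ := D.K.alt σ hσ
  have h2 : ∀ a b, c * e (pr a b) * c⁻¹ = e (pr (σ a) (σ b)) := by
    intro a b
    rw [h1 _ (sum_pr a b), pr_comp]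
  refine ⟨c, hc, h2, fun a b => ?_⟩
  have h3 := D.zeta_comm hc
  have h4 : c * (e (pr a b) * ζ) * c⁻¹ = (c * e (pr a b) * c⁻¹) * (c * ζ * c⁻¹) := by group
  rw [h4, h2, h3]

theorem pt_eq {i : Fin n} (hi : i ≠ 0) : pt ε i = e (pr (α i) (β i)) * ζ := D.K.pt i hi

theorem two_ne : (2 : ℕ) < n := lt_of_lt_of_le (by norm_num) D.B.five

/-- Another letter. -/
theorem exists_letter (i : Fin n) : ∃ j : Fin n, j ≠ 0 ∧ j ≠ i := by
  obtain ⟨j, hj⟩ := exists_not_mem ({0, i} : Finset (Fin n))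
    (lt_of_le_of_lt Finset.card_le_two D.two_ne)
  simp only [Finset.mem_insert, Finset.mem_singleton, not_or] at hj
  exact ⟨j, hj⟩

theorem disj' {i j : Fin n} (hi : i ≠ 0) (hj : j ≠ 0) (hij : i ≠ j) :
    α i ≠ α j ∧ α i ≠ β j ∧ β i ≠ α j ∧ β i ≠ β j :=
  ⟨(D.K.disj i j hi hj hij).1, (D.K.disj i j hi hj hij).2.1,
    (D.K.disj j i hj hi hij.symm).2.1.symm, (D.K.disj i j hi hj hij).2.2⟩

/-- `e(pr c d)` is in the block of `z_i` if `{c, d}` and `{α i, β i}` are disjoint. -/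
theorem perp {i : Fin n} (hi : i ≠ 0) {c d : Fin N} (hcd : c ≠ d) (h1 : c ≠ α i) (h2 : c ≠ β i)
    (h3 : d ≠ α i) (h4 : d ≠ β i) : e (pr c d) ∈ blk ε X (pt ε i) (pt ε 0) := by
  obtain ⟨j, hj0, hji⟩ := D.exists_letter i
  obtain ⟨d1, d2, d3, d4⟩ := D.disj' hi hj0 hji.symm
  obtain ⟨σ, hs, s1, s2, s3, s4⟩ := exists_even_four D.K.N8 (D.K.ab i hi) d1 d2 d3 d4 (D.K.ab j hj0)
    (D.K.ab i hi) (Ne.symm h1) (Ne.symm h3) (Ne.symm h2) (Ne.symm h4) hcd
  obtain ⟨k, hk, -, k2⟩ := D.exists_alt hs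
  have e1 : k * pt ε i * k⁻¹ = pt ε i := by
    rw [D.pt_eq hi, k2, s1, s2]
  have e2 : k * pt ε j * k⁻¹ = e (pr c d) * ζ := by
    rw [D.pt_eq hj0, k2, s3, s4]
  have h5 : pt ε j ∈ blk ε X (pt ε i) (pt ε 0) := by
    rw [D.blk_pt hi hji.symm]
    exact D.right_mem (D.B.adj_pt hji.symm)
  have h6 : MulAut.conj k • blk ε X (pt ε i) (pt ε 0) = blk ε X (pt ε i) (pt ε 0) := by
    rw [conj_blk, e1, mem_Cn'.1 hk]
  have h7 := mem_conj_of h5 k
  rw [h6, e2] at h7
  have h8 : ζ ∈ blk ε X (pt ε i) (pt ε 0) := by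
    have h9 : zpowers (pt ε 0) ≤ blk ε X (pt ε i) (pt ε 0) := by
      rw [zpowers_le]
      exact D.right_mem (D.B.adj_pt hi)
    exact h9 D.zeta_mem
  have h9 := mul_mem h7 (inv_mem h8)
  rwa [mul_inv_cancel_right] at h9

/-- (3a) -/
theorem three_a {i j : Fin n} (hi : i ≠ 0) (hj : j ≠ 0) (hij : i ≠ j) :
    X ≤ blk ε X (pt ε i) (pt ε 0) ⊔ blk ε X (pt ε j) (pt ε 0) := by
  obtain ⟨d1, d2, d3, d4⟩ := D.disj' hi hj hij
  obtain ⟨f, hf⟩ := exists_out D.K.N8 ({α i, β i, α j, β j} : Finset (Fin N))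
    (Finset.card_le_four.trans (by norm_num))
  simp only [Finset.mem_insert, Finset.mem_singleton, not_or] at hf
  obtain ⟨f1, f2, f3, f4⟩ := hf
  refine D.gen_le fun c d hcd => ?_
  by_cases hc : c = α i ∨ c = β i
  · by_cases hd : d = α j ∨ d = β j
    · have h1 : e (pr c d) = e (pr c f) * e (pr f d) := by
        rw [← D.K.add _ _ (sum_pr c f) (sum_pr f d), pr_add]
      rw [h1]
      refine mul_mem (mem_sup_right (D.perp hj ?_ ?_ ?_ f3 f4)) (mem_sup_left (D.perp hi ?_ f1 f2 ?_ ?_))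
      · rintro rfl
        rcases hc with h | h
        · exact f1 h
        · exact f2 h
      · rcases hc with h | h
        · rw [h]; exact d1
        · rw [h]; exact d3
      · rcases hc with h | h
        · rw [h]; exact d2
        · rw [h]; exact d4
      · rintro rfl
        rcases hd with h | h
        · exact f3 h
        · exact f4 h
      · rcases hd with h | h
        · rw [h]; exact d1.symm
        · rw [h]; exact d2.symm
      · rcases hd with h | h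
        · rw [h]; exact d3.symm
        · rw [h]; exact d4.symm
    · push Not at hd
      refine mem_sup_right (D.perp hj hcd ?_ ?_ hd.1 hd.2)
      · rcases hc with h | h
        · rw [h]; exact d1
        · rw [h]; exact d3
      · rcases hc with h | h
        · rw [h]; exact d2
        · rw [h]; exact d4
  · push Not at hc
    by_cases hd : d = α i ∨ d = β i
    · by_cases hc' : c = α j ∨ c = β j
      · have h1 : e (pr c d) = e (pr c f) * e (pr f d) := by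
          rw [← D.K.add _ _ (sum_pr c f) (sum_pr f d), pr_add]
        rw [h1]
        refine mul_mem (mem_sup_left (D.perp hi ?_ hc.1 hc.2 f1 f2)) (mem_sup_right (D.perp hj ?_ f3 f4 ?_ ?_))
        · rintro rfl
          rcases hc' with h | h
          · exact f3 h
          · exact f4 h
        · rintro rfl
          rcases hd with h | h
          · exact f1 h
          · exact f2 h
        · rcases hd with h | h
          · rw [h]; exact d1
          · rw [h]; exact d3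
        · rcases hd with h | h
          · rw [h]; exact d2
          · rw [h]; exact d4
      · push Not at hc'
        refine mem_sup_right (D.perp hj hcd hc'.1 hc'.2 ?_ ?_)
        · rcases hd with h | h
          · rw [h]; exact d1
          · rw [h]; exact d3
        · rcases hd with h | h
          · rw [h]; exact d2
          · rw [h]; exact d4
    · push Not at hd
      exact mem_sup_left (D.perp hi hcd hc.1 hc.2 hd.1 hd.2)

end Sit

end Cfsg.Agent.Omega.NO3S.SN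

end

section


/-!
# THEOREM SN, part (3): the groups `M`, `X^{(y)}(p) ≠ X^{(p)}(y)`, `ζ = 1`

* `Sit.MM_pt`, `Sit.MM_eq` (3a) : `M(y, p)` depends only on the block `blk y p`;
* `Sit.blk_ne` (C) : `blk y p ≠ blk p y`; `Sit.not_mem` : `e {α 1, c} ∉ blk z_1 z` for `c ≠ α 1, β 1`;
* `Sit.zeta_one` (3c) : `ζ = 1`.
-/

set_option autoImplicit false
set_option linter.unusedSectionVars false

namespace Cfsg.Agent.Omega.NO3S.SN

open Subgroup Cfsg Cfsg.Agent.ZN
open Cfsg.Agent.Omega.S5.Def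
open Cfsg.Agent.MinSimple.VModule
open Cfsg.Agent.MinSimple.CosetFam (o2_conj zc_conj centralizer_conj normalizer_conj)
open Cfsg.Agent.Omega.NoFF.Basic (conj_conj conj_self mem_conj conj_le_iff comm_symm comm_mono conj_le_centralizer)
open scoped Pointwise

universe u

namespace Sit

variable {G : Type u} [Group G] {n : ℕ} [NeZero n] {V P : Subgroup G} {ε : (Fin n → ZMod 2) → G}
  {N : ℕ} {X : Subgroup G} {e : (Fin N → ZMod 2) → G} {α β : Fin n → Fin N} {ζ : G}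
  (D : Sit V P ε N X e α β ζ)
include D

/-! ### (3a) -/

theorem three_a' {i j k : Fin n} (hij : i ≠ j) (hik : i ≠ k) (hjk : j ≠ k) :
    blk ε X (pt ε i) (pt ε j) ≤ blk ε X (pt ε j) (pt ε i) ⊔ blk ε X (pt ε k) (pt ε i) := by
  obtain ⟨w, -, -, hw⟩ := D.B.exists_perm (Equiv.swap 0 i)
  have key : ∀ j, i ≠ j → Equiv.swap 0 i j ≠ 0 := by
    intro j hij h
    have h1 := congrArg (Equiv.swap 0 i) h
    rw [Equiv.swap_apply_self, Equiv.swap_apply_left] at h1
    exact hij h1.symm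
  have h1 := D.three_a (key j hij) (key k hik) (fun h => hjk ((Equiv.swap 0 i).injective h))
  have h2 := conj_le_iff (g := w) |>.2 h1
  rw [smul_sup, conj_blk, conj_blk, hw, hw, hw, Equiv.swap_apply_self, Equiv.swap_apply_self,
    Equiv.swap_apply_left] at h2
  have h3 : MulAut.conj w • X = blk ε X (pt ε i) (pt ε j) := by
    have h4 : i ≠ Equiv.swap 0 i 1 := by
      intro h
      have h5 := congrArg (Equiv.swap 0 i) h
      rw [Equiv.swap_apply_self, Equiv.swap_apply_right] at h5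
      exact D.B.one_ne_zero h5.symm
    rw [D.blk_pt hij h4]
    exact (D.blk_eq' (by rw [hw, Equiv.swap_apply_left]) (hw 1)).symm
  rwa [h3] at h2

theorem blk_le_MM {i j k l : Fin n} (hij : i ≠ j) (hkl : k ≠ l) :
    blk ε X (pt ε k) (pt ε l) ≤ MM ε X (pt ε i) (pt ε j) := by
  by_cases hki : k = i
  · subst hki
    rw [D.blk_pt hkl hij]
    exact le_sup_left
  · by_cases hkj : k = j
    · subst hkj
      rw [D.blk_pt hkl hki]
      exact le_sup_right
    · rw [D.blk_pt hkl hki]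
      refine (D.three_a' hki hkj hij).trans (sup_le ?_ ?_)
      · rw [D.blk_pt (Ne.symm hki) hij]
        exact le_sup_left
      · rw [D.blk_pt (Ne.symm hkj) (Ne.symm hij)]
        exact le_sup_right

/-- (3a) `M` depends only on the line. -/
theorem MM_pt {i j k l : Fin n} (hij : i ≠ j) (hkl : k ≠ l) :
    MM ε X (pt ε k) (pt ε l) = MM ε X (pt ε i) (pt ε j) :=
  le_antisymm (sup_le (D.blk_le_MM hij hkl) (D.blk_le_MM hij (Ne.symm hkl)))
    (sup_le (D.blk_le_MM hkl hij) (D.blk_le_MM hkl (Ne.symm hij)))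

theorem ab1 : α 1 ≠ β 1 := D.K.ab 1 D.B.one_ne_zero

theorem MM_disj {a b c d : Fin N} (h1 : a ≠ b) (h2 : a ≠ c) (h3 : a ≠ d) (h4 : b ≠ c) (h5 : b ≠ d)
    (h6 : c ≠ d) : MM ε X (pt ε 0) (e (pr a b) * ζ) = MM ε X (pt ε 0) (e (pr c d) * ζ) := by
  have h10 := D.B.one_ne_zero
  obtain ⟨j, hj0, hj1⟩ := D.exists_letter 1
  obtain ⟨d1, d2, d3, d4⟩ := D.disj' h10 hj0 hj1.symm
  obtain ⟨σ, hs, s1, s2, s3, s4⟩ := exists_even_four D.K.N8 D.ab1 d1 d2 d3 d4 (D.K.ab j hj0)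
    h1 h2 h3 h4 h5 h6
  obtain ⟨k, hk, -, k2⟩ := D.exists_alt hs
  have e0 := mem_Cn'.1 hk
  have e1 : k * pt ε 1 * k⁻¹ = e (pr a b) * ζ := by
    rw [D.pt_eq h10, k2, s1, s2]
  have e2 : k * pt ε j * k⁻¹ = e (pr c d) * ζ := by
    rw [D.pt_eq hj0, k2, s3, s4]
  have h7 := congrArg (fun A => MulAut.conj k • A) (D.MM_pt (Ne.symm hj0) (Ne.symm h10))
  simp only [conj_MM, e0, e1, e2] at h7
  exact h7

theorem MM_pp {a b : Fin N} (hab : a ≠ b) :
    MM ε X (pt ε 0) (e (pr a b) * ζ) = MM ε X (pt ε 0) (pt ε 1) := by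
  rw [D.pt_eq D.B.one_ne_zero]
  obtain ⟨c, hc⟩ := exists_out D.K.N8 ({a, b, α 1, β 1} : Finset (Fin N))
    (Finset.card_le_four.trans (by norm_num))
  obtain ⟨d, hd⟩ := exists_out D.K.N8 ({a, b, α 1, β 1, c} : Finset (Fin N))
    (Finset.card_le_five.trans (by norm_num))
  simp only [Finset.mem_insert, Finset.mem_singleton, not_or] at hc hd
  rw [D.MM_disj hab (Ne.symm hc.1) (Ne.symm hd.1) (Ne.symm hc.2.1) (Ne.symm hd.2.1) (Ne.symm hd.2.2.2.2)]
  exact (D.MM_disj D.ab1 (Ne.symm hc.2.2.1) (Ne.symm hd.2.2.1) (Ne.symm hc.2.2.2)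
    (Ne.symm hd.2.2.2.1) (Ne.symm hd.2.2.2.2)).symm

/-- A point of the block `X` is a pair. -/
theorem exists_pair {k : G} (hk : k ∈ Cn (pt ε 0)) (hX : MulAut.conj k • X = X) :
    ∃ a b, a ≠ b ∧ k * pt ε 1 * k⁻¹ = e (pr a b) * ζ := by
  obtain ⟨a, b, hab, h1⟩ := D.K.actp k hk hX _ _ D.ab1
  refine ⟨a, b, hab, ?_⟩
  have h2 := D.zeta_comm hk
  have h3 : k * pt ε 1 * k⁻¹ = (k * e (pr (α 1) (β 1)) * k⁻¹) * (k * ζ * k⁻¹) := by
    rw [D.pt_eq D.B.one_ne_zero]
    group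
  rw [h3, h1, h2]

/-- (3a) `M(y, p)` depends only on the block of `y` containing `p`. -/
theorem MM_eq {y p q : G} (h : Adj ε y p) (h' : Adj ε y q) (hb : blk ε X y q = blk ε X y p) :
    MM ε X y q = MM ε X y p := by
  obtain ⟨g, h0, h1⟩ := h
  obtain ⟨k, k0, k1⟩ := h'
  rw [D.blk_eq' h0 h1, D.blk_eq' k0 k1] at hb
  have hc : (g⁻¹ * k) * pt ε 0 * (g⁻¹ * k)⁻¹ = pt ε 0 := by
    have h3 : (g⁻¹ * k) * pt ε 0 * (g⁻¹ * k)⁻¹ = g⁻¹ * (k * pt ε 0 * k⁻¹) * g := by group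
    rw [h3, k0, ← h0]
    group
  have hX : MulAut.conj (g⁻¹ * k) • X = X := by
    rw [← conj_conj, hb, conj_conj, inv_mul_cancel, map_one, one_smul]
  obtain ⟨a, b, hab, h2⟩ := D.exists_pair (mem_Cn'.2 hc) hX
  have h3 := congrArg (fun A => MulAut.conj g • A) (D.MM_pp hab)
  simp only [← h2, conj_MM, h0, h1] at h3
  have h4 : g * (g⁻¹ * k * pt ε 1 * (g⁻¹ * k)⁻¹) * g⁻¹ = q := by
    rw [← k1]
    group
  rwa [h4] at h3

/-! ### (C) -/

/-- (C) -/
theorem blk_ne {y p : G} (h : Adj ε y p) : blk ε X y p ≠ blk ε X p y := by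
  intro heq
  have hall : ∀ y p, Adj ε y p → blk ε X y p = blk ε X p y := by
    obtain ⟨g, h0, h1⟩ := h
    have h2 : blk ε X (pt ε 0) (pt ε 1) = blk ε X (pt ε 1) (pt ε 0) := by
      have h3 := congrArg (fun A => MulAut.conj g⁻¹ • A) heq
      simp only [conj_blk, ← h0, ← h1] at h3
      have h4 : ∀ a : G, g⁻¹ * (g * a * g⁻¹) * g⁻¹⁻¹ = a := fun a => by group
      rwa [h4, h4] at h3
    rintro _ _ ⟨k, rfl, rfl⟩
    rw [← conj_blk, ← conj_blk, h2]
  have hQ : ∀ y p, Adj ε y p → Qn p ≤ centralizer (U V (pt ε 0) y : Set G) := by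
    intro y p h
    refine comm_symm (D.U_le_of fun q hq => ?_)
    by_cases hqp : blk ε X y q = blk ε X y p
    · rw [hqp, hall y p h]
      exact comm_symm ((D.B.Qn_le p).trans (centralizer_le (D.blk_le_U (D.B.adj_symm h))))
    · exact comm_symm (D.Q1' h hq hqp)
  obtain ⟨k, x, y, hc⟩ := D.B.exists_crit
  obtain ⟨l, rfl⟩ := D.B.crit_pos hc
  have hw := hc.walk
  cases hw with
  | step hxp hpy => exact hc.ne ((D.B.crit_le_Qn hc hxp).trans (hQ _ _ (D.B.adj_symm hpy)))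

omit D in
theorem card_conj (g : G) (A : Subgroup G) : Nat.card (MulAut.conj g • A : Subgroup G) = Nat.card A :=
  Nat.card_congr (Subgroup.equivSMul (MulAut.conj g) A).toEquiv.symm

theorem card_blk {y p : G} (h : Adj ε y p) : Nat.card (blk ε X y p) = Nat.card X := by
  obtain ⟨g, h0, h1⟩ := h
  rw [D.blk_eq' h0 h1, card_conj]

theorem not_mem [Finite G] {c : Fin N} (h1 : c ≠ α 1) (h2 : c ≠ β 1) :
    e (pr (α 1) c) ∉ blk ε X (pt ε 1) (pt ε 0) := by
  intro hmem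
  have h10 := D.B.one_ne_zero
  have hz : e (pr (α 1) (β 1)) ∈ blk ε X (pt ε 1) (pt ε 0) := by
    have h3 : e (pr (α 1) (β 1)) = pt ε 1 * ζ⁻¹ := by
      rw [D.pt_eq h10, mul_inv_cancel_right]
    rw [h3]
    refine mul_mem (D.left_mem (D.B.adj_pt h10)) (inv_mem ?_)
    have h9 : zpowers (pt ε 0) ≤ blk ε X (pt ε 1) (pt ε 0) := by
      rw [zpowers_le]
      exact D.right_mem (D.B.adj_pt h10)
    exact h9 D.zeta_mem
  have key : ∀ d, d ≠ α 1 → d ≠ β 1 → e (pr (α 1) d) ∈ blk ε X (pt ε 1) (pt ε 0) := by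
    intro d hd1 hd2
    by_cases hcd : c = d
    · rw [← hcd]
      exact hmem
    · have h3 : e (pr (α 1) d) = e (pr (α 1) c) * e (pr c d) := by
        rw [← D.K.add _ _ (sum_pr _ _) (sum_pr _ _), pr_add]
      rw [h3]
      exact mul_mem hmem (D.perp h10 hcd h1 h2 hd1 hd2)
  have key2 : ∀ d, d ≠ α 1 → d ≠ β 1 → e (pr (β 1) d) ∈ blk ε X (pt ε 1) (pt ε 0) := by
    intro d hd1 hd2
    have h3 : e (pr (β 1) d) = e (pr (α 1) (β 1)) * e (pr (α 1) d) := by
      rw [← D.K.add _ _ (sum_pr _ _) (sum_pr _ _), pr_comm (α 1) (β 1), pr_add]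
    rw [h3]
    exact mul_mem hz (key d hd1 hd2)
  have hle : X ≤ blk ε X (pt ε 1) (pt ε 0) := by
    refine D.gen_le fun a b hab => ?_
    by_cases ha1 : a = α 1
    · subst ha1
      by_cases hb : b = β 1
      · rw [hb]
        exact hz
      · exact key b hab.symm hb
    · by_cases ha2 : a = β 1
      · subst ha2
        by_cases hb : b = α 1
        · rw [hb, pr_comm]
          exact hz
        · exact key2 b hb hab.symm
      · by_cases hb1 : b = α 1
        · subst hb1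
          rw [pr_comm]
          exact key a ha1 ha2
        · by_cases hb2 : b = β 1
          · subst hb2
            rw [pr_comm]
            exact key2 a ha1 ha2
          · exact D.perp h10 hab ha1 ha2 hb1 hb2
  have hadj := D.B.adj_pt (i := 0) (j := 1) (Ne.symm h10)
  apply D.blk_ne hadj
  rw [D.blk_z]
  exact Subgroup.eq_of_le_of_card_ge hle (D.card_blk (D.B.adj_symm hadj)).le

/-! ### (3c) -/

theorem X_comm {a b : G} (ha : a ∈ X) (hb : b ∈ X) : a * b = b * a :=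
  ((mem_centralizer_iff.1 (D.B.U_comm _ (D.K.le ha)) b (D.K.le hb))).symm

theorem X_sq {a : G} (ha : a ∈ X) : a * a = 1 := by
  have h := D.B.U_sq _ a (D.K.le ha)
  rwa [pow_two] at h

theorem e_inj {x y : Fin N → ZMod 2} (hx : ∑ i, x i = 0) (hy : ∑ i, y i = 0) (h : e x = e y) : x = y := by
  refine eq_of_add_eq_zero (D.K.inj _ (sum_add hx hy) ?_)
  rw [D.K.add _ _ hx hy, h, D.X_sq (D.K.mem _ hy)]

theorem e_mem (a b : Fin N) : e (pr a b) ∈ X := D.K.mem _ (sum_pr a b)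

theorem zeta_mem_X : ζ ∈ X := by
  have h9 : zpowers (pt ε 0) ≤ X := by
    rw [zpowers_le]
    exact D.pt_mem_X 0
  exact h9 D.zeta_mem

/-- An element of `C(z) ∩ C(z_1)` maps pairs disjoint from `{α 1, β 1}` to pairs not containing `α 1`. -/
theorem off_pair {k : G} (hk : k ∈ Cn (pt ε 0)) (hk1 : k ∈ Cn (pt ε 1)) {j : Fin n} (hj0 : j ≠ 0)
    (hj1 : j ≠ 1) : ∃ v : Fin N → ZMod 2, ∑ i, v i = 0 ∧ v (α 1) = 0 ∧ k * pt ε j * k⁻¹ = e v * ζ := by
  have h10 := D.B.one_ne_zero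
  have hX : MulAut.conj k • X = X := by
    refine D.conj_X_eq hk (D.pt_mem_X 1) ?_ (D.pt_notMem h10)
    have h1 := mem_conj_of (D.pt_mem_X 1) k
    rwa [mem_Cn'.1 hk1] at h1
  have hX' : MulAut.conj k⁻¹ • X = X := by
    have h1 := congrArg (fun A => MulAut.conj k⁻¹ • A) hX
    simp only [conj_conj, inv_mul_cancel, map_one, one_smul] at h1
    exact h1.symm
  obtain ⟨a, b, hab, h1⟩ := D.K.actp k hk hX _ _ (D.K.ab j hj0)
  obtain ⟨d1, d2, d3, d4⟩ := D.disj' h10 hj0 hj1.symm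
  have h1' : k * e (pr (α 1) (β 1)) * k⁻¹ = e (pr (α 1) (β 1)) := by
    have h2 : e (pr (α 1) (β 1)) = pt ε 1 * ζ⁻¹ := by
      rw [D.pt_eq h10, mul_inv_cancel_right]
    have h3 : k * e (pr (α 1) (β 1)) * k⁻¹ = (k * pt ε 1 * k⁻¹) * (k * ζ * k⁻¹)⁻¹ := by
      rw [h2]
      group
    rw [h3, mem_Cn'.1 hk1, D.zeta_comm hk, ← h2]
  have h2 : k * pt ε j * k⁻¹ = e (pr a b) * ζ := by
    have h3 : k * pt ε j * k⁻¹ = (k * e (pr (α j) (β j)) * k⁻¹) * (k * ζ * k⁻¹) := by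
      rw [D.pt_eq hj0]
      group
    rw [h3, h1, D.zeta_comm hk]
  have key : ∀ a b, k * e (pr (α j) (β j)) * k⁻¹ = e (pr a b) → a ≠ α 1 := by
    intro a b h1 ha
    by_cases hb : b = β 1
    · rw [ha, hb, ← h1', conj_mul_inj] at h1
      have h4 := congrFun (D.e_inj (sum_pr _ _) (sum_pr _ _) h1) (α 1)
      simp only [pr_apply, d1, d2, D.ab1, if_true, if_false] at h4
      exact absurd h4 (by decide)
    · have h3 : k⁻¹ * e (pr b (β 1)) * k⁻¹⁻¹ = e (pr (α j) (β j) + pr (α 1) (β 1)) := by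
        have h4 : e (pr b (β 1)) = e (pr a b) * e (pr (α 1) (β 1)) := by
          rw [← D.K.add _ _ (sum_pr _ _) (sum_pr _ _), ha, pr_comm (α 1) b, pr_add]
        have h5 : k⁻¹ * e (pr b (β 1)) * k⁻¹⁻¹ =
            (k⁻¹ * e (pr a b) * k) * (k⁻¹ * e (pr (α 1) (β 1)) * k) := by
          rw [h4]
          group
        rw [h5, D.K.add _ _ (sum_pr _ _) (sum_pr _ _), ← h1]
        have h6 : k⁻¹ * e (pr (α 1) (β 1)) * k = e (pr (α 1) (β 1)) := by
          nth_rewrite 1 [← h1']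
          group
        rw [h6]
        group
      obtain ⟨a2, b2, -, h4⟩ := D.K.actp k⁻¹ (inv_mem hk) hX' _ _ hb
      rw [h3] at h4
      have h5 := D.e_inj (sum_add (sum_pr _ _) (sum_pr _ _)) (sum_pr _ _) h4
      have q1 := congrFun h5 (α 1)
      have q2 := congrFun h5 (β 1)
      have q3 := congrFun h5 (α j)
      have ab1 := D.ab1
      simp only [Pi.add_apply, pr_apply, d1, d2, d3, d4, D.ab1, d1.symm, d2.symm, d3.symm, d4.symm,
        D.ab1.symm, D.K.ab j hj0, if_true, if_false] at q1 q2 q3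
      have p1 : α 1 = a2 ∨ α 1 = b2 := by
        by_contra hcon
        push Not at hcon
        simp only [hcon.1, hcon.2, if_false] at q1
        exact absurd q1 (by decide)
      have p2 : β 1 = a2 ∨ β 1 = b2 := by
        by_contra hcon
        push Not at hcon
        simp only [hcon.1, hcon.2, if_false] at q2
        exact absurd q2 (by decide)
      have p3 : α j = a2 ∨ α j = b2 := by
        by_contra hcon
        push Not at hcon
        simp only [hcon.1, hcon.2, if_false] at q3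
        exact absurd q3 (by decide)
      rcases p1 with p1 | p1 <;> rcases p2 with p2 | p2 <;> rcases p3 with p3 | p3
      · exact ab1 (p1.trans p2.symm)
      · exact ab1 (p1.trans p2.symm)
      · exact d1 (p1.trans p3.symm)
      · exact d3 (p2.trans p3.symm)
      · exact d3 (p2.trans p3.symm)
      · exact d1 (p1.trans p3.symm)
      · exact ab1 (p1.trans p2.symm)
      · exact ab1 (p1.trans p2.symm)
  refine ⟨pr a b, sum_pr a b, ?_, h2⟩
  have ha := key a b h1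
  have hb := key b a (by rw [h1, pr_comm])
  simp only [pr_apply, Ne.symm ha, Ne.symm hb, if_false, add_zero]

/-- (3c) -/
theorem zeta_one : ζ = 1 := by
  rcases D.K.zeta with hζ | hζ
  · exact hζ
  exfalso
  have h10 := D.B.one_ne_zero
  obtain ⟨j, hj0, hj1⟩ := D.exists_letter 1
  obtain ⟨w, -, -, hw⟩ := D.B.exists_perm (Equiv.swap 0 1)
  have w0 : w * pt ε 0 * w⁻¹ = pt ε 1 := by rw [hw, Equiv.swap_apply_left]
  have w1 : w * pt ε 1 * w⁻¹ = pt ε 0 := by rw [hw, Equiv.swap_apply_right]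
  have wj : w * pt ε j * w⁻¹ = pt ε j := by rw [hw, Equiv.swap_apply_of_ne_of_ne hj0 hj1]
  have key : ∀ a b, a ≠ b → a ≠ α 1 → a ≠ β 1 → b ≠ α 1 → b ≠ β 1 →
      ∃ v : Fin N → ZMod 2, ∑ i, v i = 0 ∧ v (α 1) = 0 ∧ w * (e (pr a b) * ζ) * w⁻¹ = e v * ζ := by
    intro a b hab ha1 ha2 hb1 hb2
    obtain ⟨d1, d2, d3, d4⟩ := D.disj' h10 hj0 hj1.symm
    obtain ⟨σ, hs, s1, s2, s3, s4⟩ := exists_even_four D.K.N8 D.ab1 d1 d2 d3 d4 (D.K.ab j hj0)
      D.ab1 (Ne.symm ha1) (Ne.symm hb1) (Ne.symm ha2) (Ne.symm hb2) hab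
    obtain ⟨k, hk, -, k2⟩ := D.exists_alt hs
    have e1 : k * pt ε 1 * k⁻¹ = pt ε 1 := by
      rw [D.pt_eq h10, k2, s1, s2]
    have e2 : k * pt ε j * k⁻¹ = e (pr a b) * ζ := by
      rw [D.pt_eq hj0, k2, s3, s4]
    have m1 : w * k * w⁻¹ ∈ Cn (pt ε 0) := by
      rw [← w1, ← conj_Cn]
      exact mem_conj_of (mem_Cn'.2 e1) w
    have m2 : w * k * w⁻¹ ∈ Cn (pt ε 1) := by
      rw [← w0, ← conj_Cn]
      exact mem_conj_of hk w
    obtain ⟨v, v1, v2, v3⟩ := D.off_pair m1 m2 hj0 hj1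
    refine ⟨v, v1, v2, ?_⟩
    rw [← v3, ← e2]
    nth_rewrite 2 [← wj]
    group
  obtain ⟨a, ha⟩ := exists_out D.K.N8 ({α 1, β 1} : Finset (Fin N))
    (Finset.card_le_two.trans (by norm_num))
  obtain ⟨b, hb⟩ := exists_out D.K.N8 ({α 1, β 1, a} : Finset (Fin N))
    (Finset.card_le_three.trans (by norm_num))
  obtain ⟨c, hc⟩ := exists_out D.K.N8 ({α 1, β 1, a, b} : Finset (Fin N))
    (Finset.card_le_four.trans (by norm_num))
  simp only [Finset.mem_insert, Finset.mem_singleton, not_or] at ha hb hc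
  obtain ⟨v1, p1, q1, r1⟩ := key a b (Ne.symm hb.2.2) ha.1 ha.2 hb.1 hb.2.1
  obtain ⟨v2, p2, q2, r2⟩ := key b c (Ne.symm hc.2.2.2) hb.1 hb.2.1 hc.1 hc.2.1
  obtain ⟨v3, p3, q3, r3⟩ := key a c (Ne.symm hc.2.2.1) ha.1 ha.2 hc.1 hc.2.1
  have hzz : ∀ x y : G, x ∈ X → y ∈ X → (x * ζ) * (y * ζ) = x * y := by
    intro x y _ hy
    have h1 := D.X_comm hy D.zeta_mem_X
    have h2 := D.X_sq D.zeta_mem_X
    calc (x * ζ) * (y * ζ) = x * ζ * (y * ζ) := rfl
      _ = x * ζ * (ζ * y) := by rw [h1]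
      _ = x * (ζ * ζ) * y := by group
      _ = x * y := by rw [h2, mul_one]
  -- the product of the three points
  have t1 : (e (pr a b) * ζ) * (e (pr b c) * ζ) * (e (pr a c) * ζ) = ζ := by
    rw [hzz _ _ (D.e_mem _ _) (D.e_mem _ _), ← D.K.add _ _ (sum_pr _ _) (sum_pr _ _), pr_add, ← mul_assoc,
      D.X_sq (D.e_mem _ _), one_mul]
  have t2 : (e v1 * ζ) * (e v2 * ζ) * (e v3 * ζ) = e (v1 + v2 + v3) * ζ := by
    rw [hzz _ _ (D.K.mem _ p1) (D.K.mem _ p2), ← D.K.add _ _ p1 p2, ← mul_assoc,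
      ← D.K.add _ _ (sum_add p1 p2) p3]
  have t3 : w * ((e (pr a b) * ζ) * (e (pr b c) * ζ) * (e (pr a c) * ζ)) * w⁻¹ = e (v1 + v2 + v3) * ζ := by
    rw [← t2, ← r1, ← r2, ← r3]
    group
  rw [t1] at t3
  have t4 : w * ζ * w⁻¹ = pt ε 1 := by
    rw [hζ]
    exact w0
  rw [t4, D.pt_eq h10] at t3
  have t5 := D.e_inj (sum_pr _ _) (sum_add (sum_add p1 p2) p3) (mul_right_cancel t3)
  have t6 := congrFun t5 (α 1)
  simp only [Pi.add_apply, q1, q2, q3, pr_apply, D.ab1, if_true, if_false] at t6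
  exact absurd t6 (by decide)

end Sit

end Cfsg.Agent.Omega.NO3S.SN

end

end

-- merged: Cfsg.Agent.Mrg.Omega.NO3S.SN.End
section

/-!
# THEOREM SN, parts (3d) and (4): the end

* `Sit.comm_zpowers` : `[Q_p, U_y] ≤ ⟨p⟩` for collinear `y`, `p`;
* `Sit.crit_two` : critical pairs have distance 2; `Sit.crit_unique` : a unique common neighbour;
* `Sit.false`; `false_of_str` : **`Hyp` and `Str` (the conclusion of part (2)) contradict each other**.
-/

set_option autoImplicit false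
set_option linter.unusedSectionVars false

namespace Cfsg.Agent.Omega.NO3S.SN

open Subgroup Cfsg Cfsg.Agent.ZN
open Cfsg.Agent.Omega.S5.Def
open Cfsg.Agent.MinSimple.VModule
open Cfsg.Agent.MinSimple.CosetFam (o2_conj zc_conj centralizer_conj normalizer_conj)
open Cfsg.Agent.Omega.NoFF.Basic (conj_conj conj_self mem_conj conj_le_iff comm_symm comm_mono conj_le_centralizer)
open scoped Pointwise

universe u

/-- The elements of an abelian group whose commutator with `x` is in `⟨p⟩`. -/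
theorem exists_comm {G : Type u} [Group G] {A : Subgroup G} (hA : A ≤ centralizer (A : Set G)) {p : G}
    (hp : p ∈ A) (x : G) : ∃ T : Subgroup G, ∀ u, u ∈ T ↔ u ∈ A ∧ x * u * x⁻¹ * u⁻¹ ∈ zpowers p := by
  have hc : ∀ d ∈ zpowers p, ∀ u ∈ A, u * d * u⁻¹ = d := by
    intro d hd u hu
    have h1 : zpowers p ≤ A := by
      rw [zpowers_le]
      exact hp
    have h2 := mem_centralizer_iff.1 (hA (h1 hd)) u hu
    rw [h2, mul_inv_cancel_right]
  refine ⟨{ carrier := {u | u ∈ A ∧ x * u * x⁻¹ * u⁻¹ ∈ zpowers p}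
            one_mem' := ⟨one_mem _, by simp⟩
            mul_mem' := ?_
            inv_mem' := ?_ }, fun u => Iff.rfl⟩
  · rintro u v ⟨hu, hu'⟩ ⟨hv, hv'⟩
    refine ⟨mul_mem hu hv, ?_⟩
    have h1 : x * (u * v) * x⁻¹ * (u * v)⁻¹ = (x * u * x⁻¹ * u⁻¹) * (u * (x * v * x⁻¹ * v⁻¹) * u⁻¹) := by group
    rw [h1, hc _ hv' u hu]
    exact mul_mem hu' hv'
  · rintro u ⟨hu, hu'⟩
    refine ⟨inv_mem hu, ?_⟩
    have h1 : x * u⁻¹ * x⁻¹ * u⁻¹⁻¹ = u⁻¹ * (x * u * x⁻¹ * u⁻¹)⁻¹ * u⁻¹⁻¹ := by group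
    rw [h1, hc _ (inv_mem hu') _ (inv_mem hu)]
    exact inv_mem hu'

theorem swap_comp {N : ℕ} {a b : Fin N} (hab : a ≠ b) (v : Fin N → ZMod 2) :
    v ∘ Equiv.swap a b = v ∨ v ∘ Equiv.swap a b = v + pr a b := by
  have h01 : ∀ s t : ZMod 2, s ≠ t → s = t + 1 := by decide
  by_cases h : v a = v b
  · left
    funext i
    by_cases hia : i = a
    · rw [hia, Function.comp_apply, Equiv.swap_apply_left, h]
    · by_cases hib : i = b
      · rw [hib, Function.comp_apply, Equiv.swap_apply_right, h]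
      · rw [Function.comp_apply, Equiv.swap_apply_of_ne_of_ne hia hib]
  · right
    funext i
    rw [Pi.add_apply, pr_apply]
    by_cases hia : i = a
    · rw [hia, Function.comp_apply, Equiv.swap_apply_left, if_pos rfl, if_neg hab, add_zero]
      exact h01 _ _ (Ne.symm h)
    · by_cases hib : i = b
      · rw [hib, Function.comp_apply, Equiv.swap_apply_right, if_pos rfl, if_neg hab.symm, zero_add]
        exact h01 _ _ h
      · rw [Function.comp_apply, Equiv.swap_apply_of_ne_of_ne hia hib, if_neg hia, if_neg hib, add_zero,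
          add_zero]

namespace Sit

variable {G : Type u} [Group G] {n : ℕ} [NeZero n] {V P : Subgroup G} {ε : (Fin n → ZMod 2) → G}
  {N : ℕ} {X : Subgroup G} {e : (Fin N → ZMod 2) → G} {α β : Fin n → Fin N} {ζ : G}
  (D : Sit V P ε N X e α β ζ)
include D

theorem pt_one : pt ε 1 = e (pr (α 1) (β 1)) := by
  rw [D.pt_eq D.B.one_ne_zero, D.zeta_one, mul_one]

/-- `[Q_p, U_y] ≤ ⟨p⟩`. -/
theorem comm_zpowers {y p x u : G} (h : Adj ε y p) (hx : x ∈ Qn p) (hu : u ∈ U V (pt ε 0) y) :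
    x * u * x⁻¹ * u⁻¹ ∈ zpowers p := by
  obtain ⟨T, hT⟩ := exists_comm (D.B.U_comm y) (D.B.mem_U h) x
  suffices h1 : U V (pt ε 0) y ≤ T from ((hT u).1 (h1 hu)).2
  refine D.U_le_of fun q hq => ?_
  intro v hv
  rw [hT]
  refine ⟨D.blk_le_U hq hv, ?_⟩
  have hone : x ∈ centralizer (blk ε X y q : Set G) → x * v * x⁻¹ * v⁻¹ ∈ zpowers p := by
    intro h2
    have h3 := mem_centralizer_iff.1 h2 v hv
    rw [← h3]
    simp
  by_cases hqp : blk ε X y q = blk ε X y p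
  · obtain ⟨g, h0, h1⟩ := h
    rcases D.Q2' h1 hx with h2 | h2
    · apply hone
      rw [hqp, D.blk_eq' h0 h1]
      exact h2
    · rw [hqp, D.blk_eq' h0 h1, mem_conj] at hv
      obtain ⟨t, ht, hte⟩ := D.K.surj _ hv
      have hv2 : v = g * e t * g⁻¹ := by
        rw [hte]
        group
      have h3 := h2 t ht
      rw [← hv2] at h3
      rw [h3]
      rcases swap_comp D.ab1 t with h4 | h4
      · rw [h4, ← hv2, mul_inv_cancel]
        exact one_mem _
      · rw [h4, D.K.add _ _ ht (sum_pr _ _)]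
        have h5 : g * (e t * e (pr (α 1) (β 1))) * g⁻¹ * v⁻¹ = p := by
          rw [D.X_comm (D.K.mem _ ht) (D.e_mem _ _), ← D.pt_one, hv2, ← h1]
          group
        rw [h5]
        exact mem_zpowers _
  · exact hone (D.Q1' h hq hqp hx)

theorem crit_comm {k : ℕ} {x y p g u : G} (h : Crit V ε (k + 1) x y) (h1 : Walk ε k x p) (h2 : Adj ε p y)
    (hg : g ∈ U V (pt ε 0) x) (hu : u ∈ U V (pt ε 0) y) : g * u * g⁻¹ * u⁻¹ ∈ zpowers p :=
  D.comm_zpowers (D.B.adj_symm h2) (D.B.crit_le_Qn h h1 hg) hu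

omit D in
/-- A critical pair has a nontrivial commutator. -/
theorem exists_ne {k : ℕ} {x y : G} (h : Crit V ε k x y) : ∃ g ∈ U V (pt ε 0) x, ∃ u ∈ U V (pt ε 0) y,
    g * u * g⁻¹ * u⁻¹ ≠ 1 := by
  by_contra hcon
  push Not at hcon
  apply h.ne
  intro g hg
  rw [mem_centralizer_iff]
  intro u hu
  have h1 := hcon g hg u hu
  rw [mul_inv_eq_one, mul_inv_eq_iff_eq_mul] at h1
  exact h1.symm

/-- (3d) Critical pairs have distance 2. -/
theorem crit_two {k : ℕ} {x y : G} (h : Crit V ε k x y) : k = 2 := by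
  obtain ⟨l, rfl⟩ := D.B.crit_pos h
  obtain ⟨g, hg, u, hu, hne⟩ := exists_ne h
  obtain ⟨p', hxp', hp'y⟩ := D.B.walk_cases h.walk
  have hw := h.walk
  cases hw with
  | @step _ _ p _ hxp hpy =>
    have hp2 : p ^ 2 = 1 := D.B.sq_of hpy.left
    have hp'2 : p' ^ 2 = 1 := D.B.sq_of (D.B.adj_symm hxp').left
    have h1 : g * u * g⁻¹ * u⁻¹ = p :=
      ((mem_zpowers_iff_of_sq hp2).1 (D.crit_comm h hxp hpy hg hu)).resolve_left hne
    have h2 : u * g * u⁻¹ * g⁻¹ = p' := by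
      refine ((mem_zpowers_iff_of_sq hp'2).1 (D.crit_comm (D.B.crit_symm h) (D.B.walk_symm hp'y)
        (D.B.adj_symm hxp') hu hg)).resolve_left fun h3 => hne ?_
      have h4 : g * u * g⁻¹ * u⁻¹ = (u * g * u⁻¹ * g⁻¹)⁻¹ := by group
      rw [h4, h3, inv_one]
    have h3 : p' = p := by
      have h4 : u * g * u⁻¹ * g⁻¹ = (g * u * g⁻¹ * u⁻¹)⁻¹ := by group
      rw [← h2, h4, h1]
      rw [pow_two] at hp2
      exact inv_eq_of_mul_eq_one_left hp2
    rw [h3] at hxp'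
    rcases l with _ | l
    · exact absurd hxp.zero_eq (D.B.adj_ne hxp')
    · rcases l with _ | l
      · rfl
      · exact absurd (h.min 2 (by omega) _ _ (hxp'.walk.step hpy)) h.ne

/-- (3d) The common neighbour of a critical pair is unique. -/
theorem crit_unique {x y p q : G} (h : Crit V ε 2 x y) (h1 : Adj ε x p) (h2 : Adj ε p y) (h3 : Adj ε x q)
    (h4 : Adj ε q y) : p = q := by
  obtain ⟨g, hg, u, hu, hne⟩ := exists_ne h
  have e1 := ((mem_zpowers_iff_of_sq (D.B.sq_of h2.left)).1 (D.crit_comm h h1.walk h2 hg hu)).resolve_left hne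
  have e2 := ((mem_zpowers_iff_of_sq (D.B.sq_of h4.left)).1 (D.crit_comm h h3.walk h4 hg hu)).resolve_left hne
  rw [← e1, e2]

/-! ### Index 2 -/

theorem gen_mem {A : Subgroup G} (a : Fin N) {x : Fin N → ZMod 2} (hx : ∑ i, x i = 0)
    (h : ∀ j, x j ≠ 0 → a ≠ j → e (pr a j) ∈ A) : e x ∈ A := by
  have h01 : ∀ t : ZMod 2, t = 0 ∨ t = 1 := by decide
  have key : ∀ s : Finset (Fin N), ∑ i, (∑ j ∈ s, x j • pr a j) i = 0 ∧ e (∑ j ∈ s, x j • pr a j) ∈ A := by
    intro s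
    induction s using Finset.induction_on with
    | empty =>
      rw [Finset.sum_empty, D.e_zero]
      exact ⟨by simp, one_mem _⟩
    | insert j s hj ih =>
      rw [Finset.sum_insert hj]
      have h1 : ∑ i, (x j • pr a j) i = 0 ∧ e (x j • pr a j) ∈ A := by
        rcases h01 (x j) with h2 | h2
        · rw [h2, zero_smul, D.e_zero]
          exact ⟨by simp, one_mem _⟩
        · have h4 : x j ≠ 0 := by
            rw [h2]
            exact one_ne_zero
          rw [h2, one_smul]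
          refine ⟨sum_pr a j, ?_⟩
          by_cases h3 : a = j
          · rw [h3, pr_self, D.e_zero]
            exact one_mem _
          · exact h j h4 h3
      refine ⟨sum_add h1.1 ih.1, ?_⟩
      rw [D.K.add _ _ h1.1 ih.1]
      exact mul_mem h1.2 ih.2
  have h2 : ∑ j, x j • pr a j = x := by
    funext i
    rw [Finset.sum_apply]
    simp only [Pi.smul_apply, pr_apply, smul_eq_mul, mul_add, mul_ite, mul_one, mul_zero,
      Finset.sum_add_distrib]
    rw [Finset.sum_ite_eq, if_pos (Finset.mem_univ i)]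
    by_cases h3 : i = a
    · simp only [h3, if_true, hx, zero_add]
    · simp only [h3, if_false, Finset.sum_const_zero, zero_add]
  have h3 := (key Finset.univ).2
  rwa [h2] at h3

theorem e_ab_mem : e (pr (α 1) (β 1)) ∈ blk ε X (pt ε 1) (pt ε 0) := by
  rw [← D.pt_one]
  exact D.left_mem (D.B.adj_pt D.B.one_ne_zero)

/-- `blk z_1 z` contains `{α 1, β 1}^⊥`. -/
theorem mem_of_eq {x : Fin N → ZMod 2} (hx : ∑ i, x i = 0) (h : x (α 1) = x (β 1)) :
    e x ∈ blk ε X (pt ε 1) (pt ε 0) := by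
  have h10 := D.B.one_ne_zero
  have key : ∀ x : Fin N → ZMod 2, ∑ i, x i = 0 → x (α 1) = 0 → x (β 1) = 0 →
      e x ∈ blk ε X (pt ε 1) (pt ε 0) := by
    intro x hx h1 h2
    obtain ⟨a, ha⟩ := exists_out D.K.N8 ({α 1, β 1} : Finset (Fin N))
      (Finset.card_le_two.trans (by norm_num))
    simp only [Finset.mem_insert, Finset.mem_singleton, not_or] at ha
    refine D.gen_mem a hx fun j hj haj => D.perp h10 haj ha.1 ha.2 ?_ ?_
    · rintro rfl
      exact hj h1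
    · rintro rfl
      exact hj h2
  have h01 : ∀ t : ZMod 2, t = 0 ∨ t = 1 := by decide
  rcases h01 (x (α 1)) with h1 | h1
  · exact key x hx h1 (by rw [← h]; exact h1)
  · have h2 := key (x + pr (α 1) (β 1)) (sum_add hx (sum_pr _ _))
      (by
        rw [Pi.add_apply, pr_apply, h1, if_pos rfl, if_neg D.ab1]
        decide)
      (by
        rw [Pi.add_apply, pr_apply, ← h, h1, if_pos rfl, if_neg D.ab1.symm]
        decide)
    rw [D.K.add _ _ hx (sum_pr _ _)] at h2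
    have h3 := mul_mem h2 (inv_mem D.e_ab_mem)
    rwa [mul_inv_cancel_right] at h3

/-- `|blk y p : blk y p ∩ blk p y| ≤ 2`. -/
theorem index_two {y p a b : G} (h : Adj ε y p) (ha : a ∈ blk ε X y p) (hb : b ∈ blk ε X y p)
    (ha' : a ∉ blk ε X p y) (hb' : b ∉ blk ε X p y) : a * b⁻¹ ∈ blk ε X p y := by
  obtain ⟨g, h0, h1⟩ := h
  have e1 : blk ε X p y = MulAut.conj g • blk ε X (pt ε 1) (pt ε 0) := by
    rw [conj_blk, h0, h1]
  rw [e1, mem_conj] at ha' hb' ⊢
  rw [D.blk_eq' h0 h1, mem_conj] at ha hb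
  obtain ⟨x, hx, hxa⟩ := D.K.surj _ ha
  obtain ⟨x', hx', hxb⟩ := D.K.surj _ hb
  have h2 : g⁻¹ * (a * b⁻¹) * g = (g⁻¹ * a * g) * (g⁻¹ * b * g)⁻¹ := by group
  have h3 : (g⁻¹ * b * g)⁻¹ = g⁻¹ * b * g := inv_eq_of_mul_eq_one_left (D.X_sq hb)
  rw [h2, h3, ← hxa, ← hxb, ← D.K.add _ _ hx hx']
  have h4 : x (α 1) ≠ x (β 1) := fun h5 => ha' (by rw [← hxa]; exact D.mem_of_eq hx h5)
  have h5 : x' (α 1) ≠ x' (β 1) := fun h5 => hb' (by rw [← hxb]; exact D.mem_of_eq hx' h5)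
  refine D.mem_of_eq (sum_add hx hx') ?_
  have h6 : ∀ s t s' t' : ZMod 2, s ≠ t → s' ≠ t' → s + s' = t + t' := by decide
  exact h6 _ _ _ _ h4 h5

/-! ### Points of the block `X` -/

theorem adj_pp {a b : Fin N} (hab : a ≠ b) : Adj ε (pt ε 0) (e (pr a b)) := by
  have key : ∀ {a b : Fin N}, a ≠ b → Function.Injective ![a, b] := by
    intro a b h i j hij
    fin_cases i <;> fin_cases j <;> first | rfl | (exfalso; simp_all)
  have hN := D.K.N8
  obtain ⟨σ, hs, h1⟩ := exists_even (by omega) (key D.ab1) (key hab)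
  obtain ⟨k, hk, k2, -⟩ := D.exists_alt hs
  have s1 : σ (α 1) = a := h1 0
  have s2 : σ (β 1) = b := h1 1
  refine ⟨k, mem_Cn'.1 hk, ?_⟩
  rw [D.pt_one, k2, s1, s2]

theorem blk_pp {a b : Fin N} (hab : a ≠ b) : blk ε X (pt ε 0) (e (pr a b)) = X := by
  have h1 := D.blk_eq_blk (D.adj0 D.B.one_ne_zero) (D.adj_pp hab) (by
    rw [D.blk_z]
    exact D.e_mem _ _)
  rw [h1, D.blk_z]

theorem adj_disj {a b c d : Fin N} (h1 : a ≠ b) (h2 : a ≠ c) (h3 : a ≠ d) (h4 : b ≠ c) (h5 : b ≠ d)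
    (h6 : c ≠ d) : Adj ε (e (pr a b)) (e (pr c d)) := by
  have h10 := D.B.one_ne_zero
  obtain ⟨j, hj0, hj1⟩ := D.exists_letter 1
  obtain ⟨d1, d2, d3, d4⟩ := D.disj' h10 hj0 hj1.symm
  obtain ⟨σ, hs, s1, s2, s3, s4⟩ := exists_even_four D.K.N8 D.ab1 d1 d2 d3 d4 (D.K.ab j hj0)
    h1 h2 h3 h4 h5 h6
  obtain ⟨k, hk, k2, -⟩ := D.exists_alt hs
  have e1 : k * pt ε 1 * k⁻¹ = e (pr a b) := by
    rw [D.pt_one, k2, s1, s2]
  have e2 : k * pt ε j * k⁻¹ = e (pr c d) := by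
    rw [D.pt_eq hj0, D.zeta_one, mul_one, k2, s3, s4]
  have h7 := (D.B.adj_pt hj1.symm).conj k
  rwa [e1, e2] at h7

/-! ### (4) -/

/-- `M(y, p) ≤ Q_y`, abelian (critical distance 2). -/
theorem MM_le {x x' y p : G} (hc : Crit V ε 2 x x') (h : Adj ε y p) :
    MM ε X y p ≤ Qn y ∧ MM ε X y p ≤ centralizer (MM ε X y p : Set G) := by
  have h1 : ∀ a b, Adj ε a b → U V (pt ε 0) a ≤ Qn b := fun a b hab =>
    D.B.theta hc.min 1 (by norm_num) a b hab.walk
  have h2 : ∀ a b, Adj ε a b → U V (pt ε 0) a ≤ centralizer (U V (pt ε 0) b : Set G) := fun a b hab =>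
    hc.min 1 (by norm_num) a b hab.walk
  have h' := D.B.adj_symm h
  have a1 := D.blk_le_U h
  have a2 := D.blk_le_U h'
  refine ⟨sup_le (a1.trans (D.B.U_le_Qn y)) (a2.trans (h1 _ _ h')), ?_⟩
  refine sup_le ?_ ?_
  · refine comm_symm (sup_le ?_ ?_)
    · exact comm_mono (D.B.U_comm y) a1 a1
    · exact comm_mono (h2 _ _ h') a2 a1
  · refine comm_symm (sup_le ?_ ?_)
    · exact comm_mono (h2 _ _ h) a1 a2
    · exact comm_mono (D.B.U_comm p) a2 a2

/-- `[M(y, p), Q_y] ≤ ⟨y⟩`. -/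
theorem MM_comm {x x' y p g m : G} (hc : Crit V ε 2 x x') (h : Adj ε y p) (hg : g ∈ Qn y)
    (hm : m ∈ MM ε X y p) : g * m * g⁻¹ * m⁻¹ ∈ zpowers y := by
  obtain ⟨T, hT⟩ := exists_comm (D.MM_le hc h).2 (p := y) (mem_sup_left (D.left_mem h)) g
  have h1 : MM ε X y p ≤ T := by
    refine sup_le ?_ ?_
    · intro u hu
      rw [hT]
      refine ⟨mem_sup_left hu, ?_⟩
      have h3 := mem_centralizer_iff.1 (D.B.Qn_le y hg) u (D.blk_le_U h hu)
      rw [← h3]
      simp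
    · intro u hu
      rw [hT]
      exact ⟨mem_sup_right hu, D.comm_zpowers (D.B.adj_symm h) hg (D.blk_le_U (D.B.adj_symm h) hu)⟩
  exact ((hT m).1 (h1 hm)).2

/-- The blocks of `x`, `x'` at the middle point do not commute. -/
theorem blk_not_comm {x x' y : G} (hc : Crit V ε 2 x x') (h : Adj ε x y) (h' : Adj ε x' y) :
    ¬ blk ε X x' y ≤ centralizer (blk ε X x y : Set G) := by
  intro h0
  apply hc.ne
  have h1 : U V (pt ε 0) x ≤ Qn y := D.B.theta hc.min 1 (by norm_num) _ _ h.walk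
  have h1' : U V (pt ε 0) x' ≤ Qn y := D.B.theta hc.min 1 (by norm_num) _ _ h'.walk
  have h2 : U V (pt ε 0) x ≤ centralizer (blk ε X x' y : Set G) := by
    refine D.U_le_of fun q hq => ?_
    by_cases hqy : blk ε X x q = blk ε X x y
    · rw [hqy]
      exact comm_symm h0
    · exact comm_symm (((D.blk_le_U h').trans h1').trans (D.Q1' h hq hqy))
  refine comm_symm (D.U_le_of fun q hq => ?_)
  by_cases hqy : blk ε X x' q = blk ε X x' y
  · rw [hqy]
    exact comm_symm h2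
  · exact comm_symm (h1.trans (D.Q1' h' hq hqy))

/-- **THEOREM SN, parts (3), (4).** -/
theorem false [Finite G] : False := by
  obtain ⟨k, p, x', hc⟩ := D.B.exists_crit
  obtain rfl := D.crit_two hc
  obtain ⟨y, hpy, hw⟩ := D.B.walk_cases hc.walk
  have hyx' : Adj ε y x' := by
    obtain ⟨q, h1, h2⟩ := D.B.walk_cases hw
    rw [h2.zero_eq] at h1
    exact h1
  have hx'y := D.B.adj_symm hyx'
  have hyp := D.B.adj_symm hpy
  have htheta : ∀ a b, Adj ε a b → U V (pt ε 0) a ≤ Qn b := fun a b hab =>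
    D.B.theta hc.min 1 (by norm_num) a b hab.walk
  have hnc := D.blk_not_comm hc hpy hx'y
  -- two blocks at `y`
  have hne : blk ε X y x' ≠ blk ε X y p := by
    intro h0
    have h1 := D.MM_eq hyp hyx' h0
    apply hnc
    refine comm_mono (D.MM_le hc hyp).2 ?_ le_sup_right
    rw [← h1]
    exact le_sup_right
  -- the element `g`
  obtain ⟨g, hg, hgn⟩ : ∃ g ∈ blk ε X x' y, g ∉ centralizer (blk ε X p y : Set G) := by
    by_contra hcon
    push Not at hcon
    exact hnc hcon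
  have hgQ : g ∈ Qn y := htheta _ _ hx'y (D.blk_le_U hx'y hg)
  obtain ⟨h, h0, h1⟩ := hpy
  have hpy : Adj ε p y := ⟨h, h0, h1⟩
  have hbpy : blk ε X p y = MulAut.conj h • X := D.blk_eq' h0 h1
  have hgact : ∀ v : Fin N → ZMod 2, ∑ i, v i = 0 →
      g * (h * e v * h⁻¹) * g⁻¹ = h * e (v ∘ Equiv.swap (α 1) (β 1)) * h⁻¹ := by
    refine (D.Q2' h1 hgQ).resolve_left fun h2 => hgn ?_
    rw [hbpy]
    exact h2
  -- the points `q`, `q'`
  obtain ⟨c, hcc⟩ := exists_out D.K.N8 ({α 1, β 1} : Finset (Fin N))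
    (Finset.card_le_two.trans (by norm_num))
  simp only [Finset.mem_insert, Finset.mem_singleton, not_or] at hcc
  obtain ⟨hc1, hc2⟩ := hcc
  set q := h * e (pr (α 1) c) * h⁻¹ with hq
  set q' := h * e (pr (β 1) c) * h⁻¹ with hq'
  have hpq : Adj ε p q := by
    have h2 := (D.adj_pp (Ne.symm hc1)).conj h
    rwa [h0] at h2
  have hpq' : Adj ε p q' := by
    have h2 := (D.adj_pp (Ne.symm hc2)).conj h
    rwa [h0] at h2
  have hbq : blk ε X p q = MulAut.conj h • X := by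
    rw [← h0, hq, ← conj_blk, D.blk_pp (Ne.symm hc1)]
  have hbq' : blk ε X p q' = MulAut.conj h • X := by
    rw [← h0, hq', ← conj_blk, D.blk_pp (Ne.symm hc2)]
  have hgq : g * q * g⁻¹ = q' := by
    have h2 : pr (α 1) c ∘ Equiv.swap (α 1) (β 1) = pr (β 1) c := by
      have h3 := pr_comp (Equiv.swap (α 1) (β 1)) (α 1) c
      rw [Equiv.swap_apply_left, Equiv.swap_apply_of_ne_of_ne hc1 hc2, Equiv.symm_swap] at h3
      exact h3
    rw [hq, hgact _ (sum_pr _ _), h2]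
  -- (a) `[U_q, U_y] = 1`
  have hqy : U V (pt ε 0) q ≤ centralizer (U V (pt ε 0) y : Set G) := by
    by_contra hcon
    have hcr : Crit V ε 2 q y := ⟨(D.B.adj_symm hpq).walk.step hpy, hcon, hc.min⟩
    obtain ⟨a, ha⟩ := exists_out D.K.N8 ({α 1, β 1, c} : Finset (Fin N))
      (Finset.card_le_three.trans (by norm_num))
    obtain ⟨b, hb⟩ := exists_out D.K.N8 ({α 1, β 1, c, a} : Finset (Fin N))
      (Finset.card_le_four.trans (by norm_num))
    simp only [Finset.mem_insert, Finset.mem_singleton, not_or] at ha hb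
    have h2 : Adj ε q (h * e (pr a b) * h⁻¹) :=
      (D.adj_disj (Ne.symm hc1) (Ne.symm ha.1) (Ne.symm hb.1) (Ne.symm ha.2.2) (Ne.symm hb.2.2.1)
        (Ne.symm hb.2.2.2)).conj h
    have h3 : Adj ε y (h * e (pr a b) * h⁻¹) := by
      rw [← h1, D.pt_one]
      exact (D.adj_disj D.ab1 (Ne.symm ha.1) (Ne.symm hb.1) (Ne.symm ha.2.1) (Ne.symm hb.2.1)
        (Ne.symm hb.2.2.2)).conj h
    have h4 := D.crit_unique hcr (D.B.adj_symm hpq) hpy h2 (D.B.adj_symm h3)
    have h5 : Adj ε p (h * e (pr a b) * h⁻¹) := by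
      have h6 := (D.adj_pp (Ne.symm hb.2.2.2)).conj h
      rwa [h0] at h6
    exact D.B.adj_ne h5 h4
  -- (b) `U_q ≤ Q_y`
  have hUq : U V (pt ε 0) q ≤ Qn y := fun u hu =>
    D.B.inf_le hyp ⟨htheta _ _ (D.B.adj_symm hpq) hu, hqy hu⟩
  -- (c) `[U_q, g] ≤ ⟨y⟩`
  have hcom : ∀ u ∈ U V (pt ε 0) q, u * g * u⁻¹ * g⁻¹ = 1 ∨ u * g * u⁻¹ * g⁻¹ = y := by
    intro u hu
    have h2 := D.MM_comm hc hyx' (hUq hu) (m := g) (mem_sup_right hg)
    exact (mem_zpowers_iff_of_sq (D.B.sq_of hyp.left)).1 h2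
  -- (d) index 2
  have hUg : MulAut.conj g • U V (pt ε 0) q = U V (pt ε 0) q' := by
    rw [conj_U, hgq]
  have hW : ∀ u ∈ U V (pt ε 0) q, u * g * u⁻¹ * g⁻¹ = 1 → u ∈ U V (pt ε 0) q' := by
    intro u hu h2
    have h3 := mem_conj_of hu g
    rw [hUg] at h3
    have h4 : g * u * g⁻¹ = u := by
      have h5 : g * u * g⁻¹ = (u * g * u⁻¹ * g⁻¹)⁻¹ * u := by group
      rw [h5, h2, inv_one, one_mul]
    rwa [h4] at h3
  have hW2 : ∀ u ∈ U V (pt ε 0) q, ∀ v ∈ U V (pt ε 0) q, u ∉ U V (pt ε 0) q' → v ∉ U V (pt ε 0) q' →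
      u * v⁻¹ ∈ U V (pt ε 0) q' := by
    intro u hu v hv hu' hv'
    have e1 := (hcom u hu).resolve_left fun h2 => hu' (hW u hu h2)
    have e2 := (hcom v hv).resolve_left fun h2 => hv' (hW v hv h2)
    have h4 : v⁻¹ * u ∈ U V (pt ε 0) q' := by
      refine hW _ (mul_mem (inv_mem hv) hu) ?_
      have h2 : (v⁻¹ * u) * g * (v⁻¹ * u)⁻¹ * g⁻¹ =
          v⁻¹ * ((u * g * u⁻¹ * g⁻¹) * (v * g * v⁻¹ * g⁻¹)⁻¹) * v * (g * (g⁻¹ * g)* g⁻¹) := by
        group
      rw [h2, e1, e2]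
      group
    have h5 : u * v⁻¹ = v⁻¹ * u :=
      ((mem_centralizer_iff.1 (D.B.U_comm q (inv_mem hv))) u hu)
    rw [h5]
    exact h4
  -- (e) `K_q` centralises `M`
  set Y := blk ε X q p with hY
  have hqp := D.B.adj_symm hpq
  have hM : MM ε X q p = MM ε X p y := by
    rw [MM_symm, D.MM_eq hpy hpq (by rw [hbq, hbpy])]
  have hK : oddGen (centralizer (Y : Set G)) ≤ centralizer (MM ε X p y : Set G) := by
    rw [← hM, oddGen_def, closure_le]
    rintro k ⟨hk, ho⟩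
    have hkp : k * p * k⁻¹ = p :=
      mem_Cn'.1 (mem_Cn.2 (mem_centralizer_iff.1 hk p (D.right_mem hqp)).symm)
    have hkq : k * q * k⁻¹ = q :=
      mem_Cn'.1 (mem_Cn.2 (mem_centralizer_iff.1 hk q (D.left_mem hqp)).symm)
    have hkb : MulAut.conj k • blk ε X p q = blk ε X p q := by
      rw [conj_blk, hkp, hkq]
    have hkY : MulAut.conj k • Y = Y := by
      rw [hY, conj_blk, hkp, hkq]
    change k ∈ centralizer (MM ε X q p : Set G)
    refine comm_symm (A := MM ε X q p) (B := zpowers k) ?_ (mem_zpowers k)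
    have hz : ∀ A : Subgroup G, (∀ a ∈ A, k * a = a * k) → A ≤ centralizer (zpowers k : Set G) := by
      intro A hA
      refine comm_symm ?_
      rw [zpowers_le, mem_centralizer_iff]
      exact fun a ha => (hA a ha).symm
    refine sup_le (hz _ fun a ha => (mem_centralizer_iff.1 hk a ha).symm) (hz _ fun b hb => ?_)
    -- `b ∈ blk p q`
    by_cases hbY : b ∈ Y
    · exact (mem_centralizer_iff.1 hk b hbY).symm
    · have hb2 : k * b * k⁻¹ ∈ blk ε X p q := by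
        rw [← hkb]
        exact mem_conj_of hb k
      have hb3 : k * b * k⁻¹ ∉ Y := by
        rw [← hkY, mem_conj]
        have : k⁻¹ * (k * b * k⁻¹) * k = b := by group
        rwa [this]
      have hd := D.index_two hpq hb2 hb hb3 hbY
      set d := k * b * k⁻¹ * b⁻¹ with hdd
      have hkd : k * d * k⁻¹ = d := mem_Cn'.1 (mem_Cn.2 (mem_centralizer_iff.1 hk d hd).symm)
      have hd2 : d ^ 2 = 1 := D.B.U_sq q d (D.blk_le_U hqp hd)
      have key : ∀ i : ℕ, k ^ i * b * (k ^ i)⁻¹ = d ^ i * b := by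
        intro i
        induction i with
        | zero => simp
        | succ i ih =>
          have h2 : k ^ (i + 1) * b * (k ^ (i + 1))⁻¹ = k * (k ^ i * b * (k ^ i)⁻¹) * k⁻¹ := by
            rw [pow_succ' k i]
            group
          have h3 : k * (d ^ i * b) * k⁻¹ = (k * d * k⁻¹) ^ i * (k * b * k⁻¹) := by
            rw [conj_pow]
            group
          have h4 : k * b * k⁻¹ = d * b := by
            rw [hdd]
            group
          rw [h2, ih, h3, hkd, h4, ← mul_assoc, ← pow_succ]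
      have h2 := key (orderOf k)
      rw [pow_orderOf_eq_one, one_mul, inv_one, mul_one] at h2
      have h3 : d ^ orderOf k = 1 := by
        have h4 := h2.symm
        rwa [mul_eq_right] at h4
      obtain ⟨i, hi⟩ := ho
      rw [hi, pow_add, pow_mul, hd2, one_pow, one_mul, pow_one] at h3
      have h4 : k * b * k⁻¹ = b := by
        have h5 : k * b * k⁻¹ = d * b := by
          rw [hdd]
          group
        rw [h5, h3, one_mul]
      exact mem_Cn.1 (mem_Cn'.2 h4)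
  -- (f) `q`, `q'` are in `M`
  have hqM : q ∈ MM ε X p y := by
    refine mem_sup_left ?_
    rw [hbpy, ← hbq]
    exact D.right_mem hpq
  have hq'M : q' ∈ MM ε X p y := by
    refine mem_sup_left ?_
    rw [hbpy, ← hbq']
    exact D.right_mem hpq'
  -- (h), (i)
  have hqU : q ∈ U V (pt ε 0) q' := by
    have h2 : ⁅U V (pt ε 0) q, oddGen (centralizer (Y : Set G))⁆ ≤ U V (pt ε 0) q' := by
      rw [Subgroup.commutator_le]
      intro u hu k hk
      have hkq : k ∈ Cn q := mem_Cn.2 (mem_centralizer_iff.1 (hK hk) q hqM).symm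
      have hkq' : k ∈ Cn q' := mem_Cn.2 (mem_centralizer_iff.1 (hK hk) q' hq'M).symm
      have n1 := Base.Cn_le_normalizer (V := V) (pt ε 0) q hkq
      have n2 := Base.Cn_le_normalizer (V := V) (pt ε 0) q' hkq'
      rw [commutatorElement_def]
      have h3 : u * k * u⁻¹ * k⁻¹ = u * (k * u * k⁻¹)⁻¹ := by group
      rw [h3]
      by_cases hu' : u ∈ U V (pt ε 0) q'
      · exact mul_mem hu' (inv_mem ((mem_normalizer_iff.1 n2 u).1 hu'))
      · exact hW2 u hu _ ((mem_normalizer_iff.1 n1 u).1 hu) hu' fun h4 =>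
          hu' ((mem_normalizer_iff.1 n2 u).2 h4)
    refine h2 ?_
    -- `q` has two blocks
    have h3 : ∃ r, Adj ε q r ∧ blk ε X q r ≠ blk ε X q p := by
      obtain ⟨a, a0, a1⟩ := hyp
      obtain ⟨b, b0, b1⟩ := hqp
      refine ⟨(b * a⁻¹) * x' * (b * a⁻¹)⁻¹, ?_, ?_⟩
      · have h4 := hyx'.conj (b * a⁻¹)
        have h5 : b * a⁻¹ * y * (b * a⁻¹)⁻¹ = q := by
          rw [← a0, ← b0]
          group
        rwa [h5] at h4
      · intro h4
        apply hne
        have h5 := congrArg (fun A => MulAut.conj (a * b⁻¹) • A) h4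
        simp only [conj_blk] at h5
        have h6 : a * b⁻¹ * q * (a * b⁻¹)⁻¹ = y := by
          rw [← a0, ← b0]
          group
        have h7 : a * b⁻¹ * (b * a⁻¹ * x' * (b * a⁻¹)⁻¹) * (a * b⁻¹)⁻¹ = x' := by group
        have h8 : a * b⁻¹ * p * (a * b⁻¹)⁻¹ = p := by
          have h9 : a * b⁻¹ * (b * pt ε 1 * b⁻¹) * (a * b⁻¹)⁻¹ = a * pt ε 1 * a⁻¹ := by group
          rwa [b1, a1] at h9
        rwa [h6, h7, h8] at h5
    obtain ⟨r, hr, hrne⟩ := h3
    exact D.K2' hqp hr hrne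
  -- (j)
  have hgp : g * p * g⁻¹ = p :=
    mem_Cn'.1 (mem_Cn.2 (mem_centralizer_iff.1 (D.B.Qn_le y hgQ) p (D.B.mem_U hyp)).symm)
  have hgy : g * y * g⁻¹ = y :=
    mem_Cn'.1 (mem_Cn.2 (mem_centralizer_iff.1 (D.B.Qn_le y hgQ) y (D.B.mem_U_self hyp.left)).symm)
  have hK' : oddGen (centralizer (blk ε X q' p : Set G)) ≤ centralizer (MM ε X p y : Set G) := by
    have h2 := conj_le_iff (g := g) |>.2 hK
    rw [conj_oddGen, ← centralizer_conj, ← centralizer_conj, hY, conj_blk, conj_MM, hgq, hgp, hgy] at h2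
    exact h2
  have hqb : q ∈ blk ε X q' p := by
    refine D.K1' (D.B.adj_symm hpq') ⟨hqU, ?_⟩
    exact comm_symm hK' hqM
  -- (k)
  obtain ⟨f, hf⟩ := exists_out D.K.N8 ({α 1, β 1, c} : Finset (Fin N))
    (Finset.card_le_three.trans (by norm_num))
  simp only [Finset.mem_insert, Finset.mem_singleton, not_or] at hf
  obtain ⟨σ, hs, s1, s2, s3, -⟩ := exists_even_four D.K.N8 D.ab1 (Ne.symm hc1) (Ne.symm hf.1)
    (Ne.symm hc2) (Ne.symm hf.2.1) (Ne.symm hf.2.2) hc2 hc1 (Ne.symm hf.2.2) D.ab1.symm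
    (Ne.symm hf.2.1) (Ne.symm hf.1)
  obtain ⟨k, hk, k2, -⟩ := D.exists_alt hs
  apply D.not_mem hc1 hc2
  have h2 : MulAut.conj (h * k) • blk ε X (pt ε 1) (pt ε 0) = blk ε X q' p := by
    rw [← conj_conj, conj_blk _ _ k, mem_Cn'.1 hk, D.pt_one, k2, s1, s2, conj_blk, h0, hq', pr_comm c]
  have h3 : (h * k) * e (pr (α 1) c) * (h * k)⁻¹ = q := by
    have h4 : (h * k) * e (pr (α 1) c) * (h * k)⁻¹ = h * (k * e (pr (α 1) c) * k⁻¹) * h⁻¹ := by group
    rw [h4, k2, s1, s3, pr_comm c]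
  rw [← h2, ← h3, mem_conj] at hqb
  have h4 : (h * k)⁻¹ * ((h * k) * e (pr (α 1) c) * (h * k)⁻¹) * (h * k) = e (pr (α 1) c) := by group
  rwa [h4] at hqb

end Sit

/-- **Parts (3), (4) for every `Base`** (`n ≥ 5` letters, `N ≥ 8`). -/
theorem Base.false_of_blk {G : Type u} [Group G] [Finite G] {n : ℕ} [NeZero n] {V P : Subgroup G}
    {ε : (Fin n → ZMod 2) → G} (B : Base V P ε) {N : ℕ} {X : Subgroup G} {e : (Fin N → ZMod 2) → G}
    {α β : Fin n → Fin N} {ζ : G} (hK : Blk V ε N X e α β ζ) : False := Sit.false ⟨B, hK⟩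

/-- **THEOREM SN, parts (1), (3), (4)**: `Hyp` and the structure `Str` of part (2) contradict each other. -/
theorem false_of_str {G : Type u} [Group G] [Finite G] {S : Sylow 2 G} {P : Subgroup G} {m : ℕ}
    {ε : (Fin (2 ^ m + 1) → ZMod 2) → G} (h : Hyp S P m ε) (hs : Str S P m ε) : False := by
  obtain ⟨N, X, e, α, β, ζ, hK⟩ := hs
  exact Sit.false ⟨h.base, hK⟩

end Cfsg.Agent.Omega.NO3S.SN

end

-- merged: Cfsg.Agent.Mrg.Omega.NO3S.SN.Plug
section

/-!
# THEOREM SN: plug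

* `Two K` : part (2) of THEOREM SN (input), `Hyp → Str`;
* `Hyp.of_symK` : the hypotheses from `FFThm.SymK` (one summand, `m ≥ 3`) and `NonLoc P (CZ S)`;
* `theoremSN` : **THEOREM SN**: if `V_P` is the even-subset module of `S_{2^m+1}`, `m ≥ 3`, then `⟨P, C_G(z)⟩` is
  2-local;
* `theoremSN_even`, `isLoc_sup` : the same for `EvenSet`, and `IsLoc S (P ⊔ CZ S)`;
* `symBig` : the socket `NO3S.SymBig`.
-/

set_option autoImplicit false

namespace Cfsg.Agent.Omega.NO3S.SN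

open Subgroup Cfsg Cfsg.Agent.ZN Cfsg.Agent.Omega.MinPar Cfsg.Agent.Omega.Frame Cfsg.Agent.Omega.FrameNOFF
open Cfsg.Agent.Omega.FrameFF (cv)
open Cfsg.Agent.Omega.FFThm (SymK)
open Cfsg.Agent.MinSimple.VModule
open scoped Pointwise

universe u

/-- Part (2) of THEOREM SN. -/
def Two (K : Cls.{u}) : Prop :=
  ∀ (G : Type u) [Group G] [Finite G], K G → ∀ (S : Sylow 2 G) (P : Subgroup G) (m : ℕ)
    (ε : (Fin (2 ^ m + 1) → ZMod 2) → G), Hyp S P m ε → Str S P m ε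

theorem Hyp.of_symK {G : Type u} [Group G] [Finite G] {S : Sylow 2 G} {P : Subgroup G} (hG : Ctx G)
    (hP : IsParS (S : Subgroup G) P) (hn : NonLoc P (CZ (S : Subgroup G))) {m : ℕ} (hm : 3 ≤ m)
    (M : SymK (S : Subgroup G) P (zl (S : Subgroup G) P) (cv (S : Subgroup G) P) 1 m) :
    ∃ ε, Hyp S P m ε := by
  have h1 : 1 ≤ m := le_trans (by norm_num) hm
  have hD : cv (S : Subgroup G) P = ⊥ :=
    NoFF.LinesPlug.inf_oddGen_eq_bot hG.char2 S hP.toIsPar (NoFF.LinesPlug.inf_eq_bot S hn)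
  have hH := le_normalizer_zl (S : Subgroup G) P
  exact ⟨S5.Of.lab M h1, hG, hP, hn, hm, S5.Of.evenSet M hD h1 hH, S5.Of.fix0 M hD h1 hH hP.isLoc.le⟩

/-- **THEOREM SN** (helper62 #15240), modulo part (2). -/
theorem theoremSN {K : Cls.{u}} (h2 : Two K) {G : Type u} [Group G] [Finite G] (hK : K G) (hG : Ctx G)
    (S : Sylow 2 G) {P : Subgroup G} (hP : IsParS (S : Subgroup G) P) {m : ℕ} (hm : 3 ≤ m)
    (M : SymK (S : Subgroup G) P (zl (S : Subgroup G) P) (cv (S : Subgroup G) P) 1 m) :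
    ¬ NonLoc P (CZ (S : Subgroup G)) := by
  intro hn
  obtain ⟨ε, h⟩ := Hyp.of_symK hG hP hn hm M
  exact false_of_str h (h2 G hK S P m ε h)

/-- THEOREM SN for a labelled module. -/
theorem theoremSN_even {K : Cls.{u}} (h2 : Two K) {G : Type u} [Group G] [Finite G] (hK : K G) (hG : Ctx G)
    (S : Sylow 2 G) {P : Subgroup G} (hP : IsParS (S : Subgroup G) P) {m : ℕ} (hm : 3 ≤ m)
    {ε : (Fin (2 ^ m + 1) → ZMod 2) → G} (hV : S5.Def.EvenSet (2 ^ m + 1) (zl (S : Subgroup G) P) P ε)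
    (h0 : S5.Syl.Fix0 ε (S : Subgroup G)) : ¬ NonLoc P (CZ (S : Subgroup G)) := fun hn =>
  false_of_str ⟨hG, hP, hn, hm, hV, h0⟩ (h2 G hK S P m ε ⟨hG, hP, hn, hm, hV, h0⟩)

/-- `⟨P, C_G(z)⟩` is 2-local. -/
theorem isLoc_sup {K : Cls.{u}} (h2 : Two K) {G : Type u} [Group G] [Finite G] (hK : K G) (hG : Ctx G)
    (S : Sylow 2 G) {P : Subgroup G} (hP : IsParS (S : Subgroup G) P) {m : ℕ} (hm : 3 ≤ m)
    {ε : (Fin (2 ^ m + 1) → ZMod 2) → G} (hV : S5.Def.EvenSet (2 ^ m + 1) (zl (S : Subgroup G) P) P ε)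
    (h0 : S5.Syl.Fix0 ε (S : Subgroup G)) :
    IsLoc (S : Subgroup G) (P ⊔ CZ (S : Subgroup G)) :=
  (not_nonLoc_iff S hP.isLoc.le).1 (theoremSN_even h2 hK hG S hP hm hV h0)

/-- The socket of `Node/NO3S.lean`. -/
theorem symBig {K : Cls.{u}} (h2 : Two K) : NO3S.SymBig K := by
  intro G _ _ hK S P h m hm M
  exact absurd h.nonLoc (theoremSN h2 hK h.ctx S h.star hm M)

end Cfsg.Agent.Omega.NO3S.SN

end
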